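import Groth.Agent.SF97.Points

/-! Geometric points of a schematic finite space; connectedness. -/

set_option autoImplicit false
universe u

noncomputable section

open TensorProduct SchFin

namespace Groth.Agent.SF97

variable (X : RSpace.{u})

theorem comap_ne_ker {Ω : Type u} [Field Ω] [IsAlgClosed Ω] (hX : X.IsSchematic) (ξ : GeomPt X Ω) {x' : X.pt}
    (hx : ξ.base < x') (P : Ideal (X.ring x')) [P.IsPrime] : P.comap (X.res hx.le) ≠ RingHom.ker ξ.toField := by
  intro heq
  let p := P.comap (X.res hx.le)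
  have hu : ∀ s : p.primeCompl, IsUnit (ξ.toField s) := fun s =>
    isUnit_iff_ne_zero.2 fun h0 => s.2 ((SetLike.ext_iff.1 heq _).2 (RingHom.mem_ker.2 h0))
  let L : Localization.AtPrime p →+* Ω := IsLocalization.lift hu
  let eloc := RingEquiv.ofBijective _ (localRingHom_bijective X hX hx.le P)
  let ψ : X.ring x' →+* Ω := (L.comp eloc.symm.toRingHom).comp (algebraMap (X.ring x') (Localization.AtPrime P))
  have hψ : ∀ a, ψ (X.res hx.le a) = ξ.toField a := fun a => by
    have h1 : eloc (algebraMap _ (Localization.AtPrime p) a) = algebraMap _ _ (X.res hx.le a) :=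
      Localization.localRingHom_to_map p P (X.res hx.le) rfl a
    show L (eloc.symm (algebraMap _ _ (X.res hx.le a))) = _
    rw [← h1, RingEquiv.symm_apply_apply]
    exact IsLocalization.lift_eq hu a
  let φ := Coef.ofHom ξ.hom ξ.base (ξ.hom.wedge PUnit.unit ξ.base) (ξ.hom.wedge_subset_pre _ _)
  have hempty : ξ.hom.wedge PUnit.unit x' = ∅ :=
    Set.eq_empty_iff_forall_notMem.2 fun q hq => lt_irrefl ξ.base (lt_of_lt_of_le hx hq.2)
  haveI := subsingleton_H_empty (RSpace.point Ω) hempty
    (Coef.ofHom ξ.hom x' (ξ.hom.wedge PUnit.unit x') (ξ.hom.wedge_subset_pre _ _)) 0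
  letI := (X.res hx.le).toAlgebra
  letI : Algebra (X.ring ξ.base) Ω := ξ.toField.toAlgebra
  have hbc := (ξ.isSchematic.2.2 0 PUnit.unit PUnit.unit le_rfl ξ.base x' hx.le).2
  have hT : Subsingleton (X.ring x' ⊗[X.ring ξ.base] H φ (RSpace.point Ω).str 0) := by
    letI : Module (X.ring ξ.base)
        (H (Coef.ofHom ξ.hom x' (ξ.hom.wedge PUnit.unit x') (ξ.hom.wedge_subset_pre _ _)) (RSpace.point Ω).str 0) :=
      Module.compHom _ (X.res hx.le)
    haveI : IsScalarTower (X.ring ξ.base) (X.ring x')
        (H (Coef.ofHom ξ.hom x' (ξ.hom.wedge PUnit.unit x') (ξ.hom.wedge_subset_pre _ _)) (RSpace.point Ω).str 0) :=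
      IsScalarTower.of_algebraMap_smul fun _ _ => rfl
    exact (IsBaseChange.equiv hbc).toEquiv.subsingleton
  let z : ξ.hom.wedge PUnit.unit ξ.base := ⟨PUnit.unit, le_rfl, le_rfl⟩
  let eM : H φ (RSpace.point Ω).str 0 ≃+ Ω := h0Least φ z fun q => le_of_eq rfl
  let eM' : H φ (RSpace.point Ω).str 0 ≃ₗ[X.ring ξ.base] Ω :=
    { __ := eM, map_smul' := fun a c => by
        show eM (a • c) = ξ.toField a * eM c
        refine (h0Least_smul φ z _ a c).trans ?_
        show ξ.toField (X.res le_rfl a) * eM c = _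
        rw [X.res_self] }
  haveI : Subsingleton (X.ring x' ⊗[X.ring ξ.base] Ω) :=
    (TensorProduct.congr (LinearEquiv.refl _ (X.ring x')) eM').toEquiv.symm.subsingleton
  let Φ : X.ring x' ⊗[X.ring ξ.base] Ω →ₐ[X.ring ξ.base] Ω :=
    Algebra.TensorProduct.lift { toRingHom := ψ, commutes' := hψ } (AlgHom.id _ Ω) fun _ _ => Commute.all _ _
  exact one_ne_zero (α := Ω) (by
    rw [← map_one Φ, Subsingleton.elim (1 : X.ring x' ⊗[X.ring ξ.base] Ω) 0, map_zero])

/-- the morphism from a point with given field-valued point of the ring -/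
def homPoint {Ω : Type u} [Field Ω] {x : X.pt} (χ : X.ring x →+* Ω) : SchFin.Hom (RSpace.point Ω) X where
  fn _ := x
  mono _ _ _ := le_rfl
  app _ := χ
  compat _ b := by show χ b = χ (X.res _ b); rw [X.res_self]

theorem existsUnique_geomPt (hX : X.IsSchematic) (hff : FFInter X) (Ω : Type u) [Field Ω] [IsAlgClosed Ω]
    (a : X.Pair) (ha : ∀ b : X.Pair, X.PairRel a b → b.1 ≤ a.1) (φ₀ : a.κ →+* Ω) :
    ∃! ξ : GeomPt X Ω, (⟨ξ.base, ξ.toField⟩ : Σ x : X.pt, (X.ring x →+* Ω)) =
      ⟨a.1, φ₀.comp (algebraMap (X.ring a.1) a.κ)⟩ := by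
  let χ := φ₀.comp (algebraMap (X.ring a.1) a.κ)
  let f := homPoint X χ
  have hker : RingHom.ker χ = a.2.asIdeal := Ideal.ext fun t => by
    simp only [RingHom.mem_ker, χ, RingHom.comp_apply, map_eq_zero]
    exact Ideal.algebraMap_residueField_eq_zero
  have hfin : (RSpace.point Ω).IsFinSp :=
    ⟨fun _ => inferInstanceAs (IsNoetherianRing Ω), fun _ _ _ => RingHom.Flat.id Ω⟩
  have hsch : f.IsSchematic := by
    refine ⟨hfin, hX.1, fun n x x' hx y y' hy => ⟨?_, ?_⟩⟩
    · cases x; cases x'
      exact isBC_id rfl _ (resH_self_bijective _ _ n rfl)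
    rcases n with _ | n
    swap
    · haveI : ∀ U : Set (RSpace.point Ω).pt, IsEmpty (Chain U (n + 1)) := fun U => ⟨fun σ => by
        have h01 : (0 : Fin (n + 2)) ≠ 1 := by simp
        exact h01 (σ.injective (Subtype.ext rfl))⟩
      haveI := subsingleton_H (Coef.ofHom f y' (f.wedge x y') (f.wedge_subset_pre _ _)) (RSpace.point Ω).str (n + 1)
      haveI := subsingleton_H (Coef.ofHom f y (f.wedge x y) (f.wedge_subset_pre _ _)) (RSpace.point Ω).str (n + 1)
      refine isBC_subsingleton _ _ ?_
      letI := (X.res hy).toAlgebra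
      exact (subsingleton_iff_forall_eq 0).2 fun t => by
        induction t using TensorProduct.induction_on with
        | zero => rfl
        | tmul s m => rw [Subsingleton.elim m 0, TensorProduct.tmul_zero]
        | add u v hu hv => rw [hu, hv, add_zero]
    by_cases hya : y ≤ a.1
    swap
    · have hempty : ∀ w, y ≤ w → f.wedge x w = ∅ := fun w hw =>
        Set.eq_empty_iff_forall_notMem.2 fun q hq => hya (hw.trans hq.2)
      haveI := subsingleton_H_empty (RSpace.point Ω) (hempty y' hy) (Coef.ofHom f y' (f.wedge x y') (f.wedge_subset_pre _ _)) 0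
      haveI := subsingleton_H_empty (RSpace.point Ω) (hempty y le_rfl) (Coef.ofHom f y (f.wedge x y) (f.wedge_subset_pre _ _)) 0
      refine isBC_subsingleton _ _ ?_
      letI := (X.res hy).toAlgebra
      exact (subsingleton_iff_forall_eq 0).2 fun t => by
        induction t using TensorProduct.induction_on with
        | zero => rfl
        | tmul s m => rw [Subsingleton.elim m 0, TensorProduct.tmul_zero]
        | add u v hu hv => rw [hu, hv, add_zero]
    letI := (X.res hy).toAlgebra
    letI : Algebra (X.ring y) Ω := (χ.comp (X.res hya)).toAlgebra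
    let z : f.wedge x y := ⟨PUnit.unit, le_of_eq rfl, hya⟩
    let φ := Coef.ofHom f y (f.wedge x y) (f.wedge_subset_pre _ _)
    let eM : H φ (RSpace.point Ω).str 0 ≃ₗ[X.ring y] Ω :=
      { __ := h0Least φ z fun q => le_of_eq rfl, map_smul' := fun b c => h0Least_smul φ z _ b c }
    let e : X.ring y' ⊗[X.ring y] H φ (RSpace.point Ω).str 0 ≃ₗ[X.ring y] X.ring y' ⊗[X.ring y] Ω :=
      TensorProduct.congr (LinearEquiv.refl _ (X.ring y')) eM
    by_cases hy'a : y' ≤ a.1
    · let φ' := Coef.ofHom f y' (f.wedge x y') (f.wedge_subset_pre _ _)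
      letI : Algebra (X.ring y') Ω := (χ.comp (X.res hy'a)).toAlgebra
      haveI : IsScalarTower (X.ring y) (X.ring y') Ω := .of_algebraMap_eq fun b =>
        (congrArg χ (X.res_comp hy hy'a b)).symm
      let z' : f.wedge x y' := ⟨PUnit.unit, le_of_eq rfl, hy'a⟩
      let eN : H φ' (RSpace.point Ω).str 0 ≃+ Ω := h0Least φ' z' fun q => le_of_eq rfl
      have hbc : IsBaseChange (X.ring y') (LinearMap.id : Ω →ₗ[X.ring y] Ω) := by
        let L : X.ring y' ⊗[X.ring y] Ω →ₐ[X.ring y'] Ω :=
          Algebra.TensorProduct.lift (Algebra.ofId _ Ω) (AlgHom.id _ Ω) fun _ _ => Commute.all _ _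
        have hsplit : ∀ s, (s ⊗ₜ[X.ring y] (1 : Ω) : X.ring y' ⊗[X.ring y] Ω) = 1 ⊗ₜ algebraMap (X.ring y') Ω s := by
          intro s
          exact RingHom.congr_fun (ringHom_ext_res X hX hy
            (Algebra.TensorProduct.includeLeftRingHom : X.ring y' →+* X.ring y' ⊗[X.ring y] Ω)
            ((Algebra.TensorProduct.includeRight (R := X.ring y) (A := X.ring y') (B := Ω)).toRingHom.comp
              (algebraMap (X.ring y') Ω))
            (RingHom.ext fun b => by
              show algebraMap (X.ring y) (X.ring y') b ⊗ₜ (1 : Ω) = (1 : X.ring y') ⊗ₜ algebraMap (X.ring y') Ω (algebraMap _ _ b)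
              rw [← IsScalarTower.algebraMap_apply]
              exact Algebra.TensorProduct.tmul_one_eq_one_tmul _)) s
        have hbij : Function.Bijective L := by
          refine ⟨Function.LeftInverse.injective (g := fun w => (1 : X.ring y') ⊗ₜ[X.ring y] w) fun t => ?_,
            fun w => ⟨1 ⊗ₜ w, by simp [L]⟩⟩
          induction t using TensorProduct.induction_on with
          | zero => simp
          | add u v hu hv =>
            rw [map_add]
            show (1 : X.ring y') ⊗ₜ[X.ring y] (L u + L v) = _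
            rw [TensorProduct.tmul_add]
            exact congrArg₂ _ hu hv
          | tmul s w =>
            have : (s ⊗ₜ[X.ring y] w : X.ring y' ⊗[X.ring y] Ω) = (s ⊗ₜ 1) * (1 ⊗ₜ w) := by simp
            rw [this, hsplit]
            simp [L]
        exact IsBaseChange.of_equiv (LinearEquiv.ofBijective L.toLinearMap hbij) fun w => by simp [L]
      let F₀ : Ω →ₛₗ[X.res hy] Ω :=
        { toFun := id
          map_add' := fun _ _ => rfl
          map_smul' := fun b w => (IsScalarTower.algebraMap_smul (X.ring y') b w).symm }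
      exact isBC_transport (X.res hy) (M := Ω) (N := Ω) (f := F₀)
        eM.symm.toAddEquiv (eM.symm.map_smul) eN.symm
        (fun s w => eN.injective ((eN.apply_symm_apply _).trans ((congrArg (fun v => χ (X.res hy'a s) * v)
          (eN.apply_symm_apply w).symm).trans (h0Least_smul φ' z' _ s (eN.symm w)).symm)))
        (fun w => eN.injective ((h0_resH φ (RSpace.point Ω).str (f.subTgt x hy) (eM.symm w) z').trans
          ((eM.apply_symm_apply w).trans (eN.apply_symm_apply w).symm)))
        (by exact hbc)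
    · have hempty : f.wedge x y' = ∅ := Set.eq_empty_iff_forall_notMem.2 fun q hq => hy'a hq.2
      haveI := subsingleton_H_empty (RSpace.point Ω) hempty (Coef.ofHom f y' (f.wedge x y') (f.wedge_subset_pre _ _)) 0
      refine isBC_subsingleton _ _ ?_
      haveI : Subsingleton (X.ring y' ⊗[X.ring y] Ω) := by
        by_contra hns
        rw [not_subsingleton_iff_nontrivial] at hns
        obtain ⟨q⟩ := (inferInstance : Nonempty (PrimeSpectrum (X.ring y' ⊗[X.ring y] Ω)))
        let Q := PrimeSpectrum.comap (algebraMap (X.ring y') (X.ring y' ⊗[X.ring y] Ω)) q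
        have hQ : PrimeSpectrum.comap (X.res hya) a.2 = PrimeSpectrum.comap (X.res hy) Q := by
          let iR := (Algebra.TensorProduct.includeRight (R := X.ring y) (A := X.ring y') (B := Ω)).toRingHom
          have hq0 : q.asIdeal.comap iR = ⊥ :=
            (Ideal.eq_bot_or_top _).resolve_right (Ideal.comap_ne_top _ q.isPrime.ne_top)
          refine PrimeSpectrum.ext (Ideal.ext fun b => ?_)
          show X.res hya b ∈ a.2.asIdeal ↔ (algebraMap (X.ring y) (X.ring y') b) ⊗ₜ[X.ring y] (1 : Ω) ∈ q.asIdeal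
          rw [Algebra.TensorProduct.tmul_one_eq_one_tmul, ← hker, RingHom.mem_ker]
          show χ (X.res hya b) = 0 ↔ χ (X.res hya b) ∈ q.asIdeal.comap iR
          rw [hq0, Ideal.mem_bot]
        exact hy'a (ha ⟨y', Q⟩ (pairRel_of_comap_eq X hX hff hya hy a.2 Q hQ))
      exact e.toEquiv.subsingleton
  refine ⟨⟨f, hsch⟩, rfl, ?_⟩
  rintro ⟨⟨fn, mono, app, compat⟩, hs⟩ h
  obtain ⟨rfl, h2⟩ : fn = (fun _ => a.1) ∧ HEq (app PUnit.unit) χ := by
    have h1 : fn PUnit.unit = a.1 := congrArg Sigma.fst h
    exact ⟨funext fun _ => h1, (Sigma.mk.inj_iff.1 h).2⟩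
  obtain rfl : app = fun _ => χ := funext fun _ => eq_of_heq h2
  rfl

/-- connectedness of the spectrum via idempotents -/
theorem connectedSpace_spec_iff (R : Type u) [CommRing R] :
    ConnectedSpace (PrimeSpectrum R) ↔ Nontrivial R ∧ ∀ e : R, IsIdempotentElem e → e = 0 ∨ e = 1 := by
  constructor
  · intro h
    refine ⟨PrimeSpectrum.nonempty_iff_nontrivial.1 h.toNonempty, fun e he => ?_⟩
    rcases isClopen_iff.1 (PrimeSpectrum.isIdempotentElemEquivClopens ⟨e, he⟩).isClopen' with h0 | h1
    · left
      have hb : PrimeSpectrum.basicOpen e = ⊥ := TopologicalSpace.Opens.ext h0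
      exact he.eq_zero_of_isNilpotent ((PrimeSpectrum.basicOpen_eq_bot_iff e).1 hb)
    · right
      have : PrimeSpectrum.isIdempotentElemEquivClopens ⟨e, he⟩ =
          PrimeSpectrum.isIdempotentElemEquivClopens ⟨(1 : R), IsIdempotentElem.one⟩ :=
        TopologicalSpace.Clopens.ext (h1.trans (by simp [PrimeSpectrum.coe_isIdempotentElemEquivClopens_apply]))
      exact congrArg Subtype.val (PrimeSpectrum.isIdempotentElemEquivClopens.injective this)
  · rintro ⟨hn, h⟩
    haveI : Nonempty (PrimeSpectrum R) := PrimeSpectrum.nonempty_iff_nontrivial.2 hn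
    haveI : PreconnectedSpace (PrimeSpectrum R) := by
      refine preconnectedSpace_iff_clopen.2 fun s hs => ?_
      obtain ⟨⟨e, he⟩, hes⟩ := PrimeSpectrum.isIdempotentElemEquivClopens.surjective ⟨s, hs⟩
      have hse : s = PrimeSpectrum.basicOpen e := congrArg (fun c : TopologicalSpace.Clopens _ => (c : Set (PrimeSpectrum R))) hes.symm
      rcases h e he with rfl | rfl <;> simp [hse]
    exact ⟨‹_›⟩

theorem isWellConnected_iff : X.IsWellConnected ↔ X.IsTopConnected ∧ X.IsPwConnected := by
  refine ⟨fun ⟨hc, hp⟩ => ⟨?_, hp⟩, fun ⟨ht, hp⟩ => ⟨?_, hp⟩⟩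
  · classical
    obtain ⟨hn, hid⟩ := (connectedSpace_spec_iff _).1 hc
    haveI := hn
    have hne : Nonempty X.pt := by
      by_contra hne
      exact one_ne_zero (α := X.sectRing Set.univ) (Subtype.ext (funext fun q => absurd ⟨q.1⟩ hne))
    refine ⟨hne, fun p q => ?_⟩
    let C : Set X.pt := {w | Relation.EqvGen (fun a b : X.pt => a ≤ b) p w}
    let e : X.sectRing Set.univ := ⟨fun w => if w.1 ∈ C then 1 else 0, fun w w' h => by
      have : w.1 ∈ C ↔ w'.1 ∈ C := ⟨fun hw => hw.trans _ _ _ (.rel _ _ h), fun hw => hw.trans _ _ _ (.symm _ _ (.rel _ _ h))⟩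
      simp only [this]
      split_ifs <;> simp⟩
    have he : IsIdempotentElem e := Subtype.ext (funext fun w => by
      show (if w.1 ∈ C then (1 : X.ring w.1) else 0) * _ = _
      simp only [e]; split_ifs <;> simp)
    rcases hid e he with h0 | h1
    · have hv : ((if p ∈ C then 1 else 0 : X.ring p)) = 0 :=
        congrFun (congrArg Subtype.val h0) ⟨p, trivial⟩
      rw [if_pos (show p ∈ C from Relation.EqvGen.refl p)] at hv
      haveI : Nontrivial (X.ring p) := ((connectedSpace_spec_iff _).1 (hp p)).1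
      exact absurd hv one_ne_zero
    · by_contra hq
      have hv : ((if q ∈ C then 1 else 0 : X.ring q)) = 1 :=
        congrFun (congrArg Subtype.val h1) ⟨q, trivial⟩
      rw [if_neg (show q ∉ C from hq)] at hv
      haveI : Nontrivial (X.ring q) := ((connectedSpace_spec_iff _).1 (hp q)).1
      exact zero_ne_one hv
  · obtain ⟨⟨p⟩, hpq⟩ := ht
    refine (connectedSpace_spec_iff _).2 ⟨?_, fun e he => ?_⟩
    · haveI : Nontrivial (X.ring p) := ((connectedSpace_spec_iff _).1 (hp p)).1
      exact (X.evalRing Set.univ ⟨p, trivial⟩).domain_nontrivial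
    · have hval : ∀ w : (Set.univ : Set X.pt), e.1 w = 0 ∨ e.1 w = 1 := fun w =>
        ((connectedSpace_spec_iff _).1 (hp w.1)).2 _ (congrFun (congrArg Subtype.val he) w)
      have hconst : ∀ a b : X.pt, Relation.EqvGen (fun a b : X.pt => a ≤ b) a b →
          (e.1 ⟨a, trivial⟩ = 0 ↔ e.1 ⟨b, trivial⟩ = 0) := by
        intro a b hab
        induction hab with
        | rel a b h =>
          constructor
          · intro h0; rw [← e.2 ⟨a, trivial⟩ ⟨b, trivial⟩ h, h0, map_zero]
          · intro h0
            rcases hval ⟨a, trivial⟩ with h1 | h1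
            · exact h1
            · haveI : Nontrivial (X.ring b) := ((connectedSpace_spec_iff _).1 (hp b)).1
              have := e.2 ⟨a, trivial⟩ ⟨b, trivial⟩ h
              rw [h1, h0, map_one] at this
              exact absurd this one_ne_zero
        | refl => exact Iff.rfl
        | symm _ _ _ ih => exact ih.symm
        | trans _ _ _ _ _ i1 i2 => exact i1.trans i2
      rcases hval ⟨p, trivial⟩ with h0 | h1
      · exact Or.inl (Subtype.ext (funext fun w => (hconst p w.1 (hpq p w.1)).1 h0))
      · refine Or.inr (Subtype.ext (funext fun w => (hval w).resolve_left fun hw => ?_))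
        haveI : Nontrivial (X.ring p) := ((connectedSpace_spec_iff _).1 (hp p)).1
        have := (hconst p w.1 (hpq p w.1)).2 hw
        rw [h1] at this
        exact one_ne_zero this

end Groth.Agent.SF97
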