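import Groth.Agent.SF97.Geom
import Mathlib.RingTheory.Finiteness.Descent
import Mathlib.LinearAlgebra.TensorProduct.Pi
import Mathlib.LinearAlgebra.DFinsupp
import Mathlib.RingTheory.RingHom.FaithfullyFlat

/-! Quasi-coherent modules and algebras on an affine open of a finite space. -/

set_option autoImplicit false
universe u

noncomputable section

open TensorProduct SchFin

namespace Groth.Agent.SF97

/-- base change does not see an isomorphism of the source ring -/
theorem isBC_ringEquiv {R R' S M M' N : Type u} [CommRing R] [CommRing R'] [CommRing S] [AddCommGroup M]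
    [AddCommGroup M'] [AddCommGroup N] [Module R M] [Module R' M'] [Module S N] (ρ : R ≃+* R') (g : R →+* S)
    (g' : R' →+* S) (hg : ∀ a, g' (ρ a) = g a) (f : M →ₛₗ[g] N) (f' : M' →ₛₗ[g'] N) (eM : M ≃+ M')
    (hM : ∀ a m, eM (a • m) = ρ a • eM m) (hf : ∀ m, f' (eM m) = f m) (h : IsBCAlong g' f') : IsBCAlong g f := by
  obtain rfl : g = g'.comp ρ.toRingHom := RingHom.ext fun a => (hg a).symm
  letI : Algebra R S := (g'.comp ρ.toRingHom).toAlgebra
  letI : Algebra R R' := ρ.toRingHom.toAlgebra
  letI : Algebra R' S := g'.toAlgebra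
  letI : Module R N := Module.compHom N (g'.comp ρ.toRingHom)
  letI : Module R' N := Module.compHom N g'
  letI : Module R M' := Module.compHom M' ρ.toRingHom
  haveI : IsScalarTower R R' S := IsScalarTower.of_algebraMap_eq fun _ => rfl
  haveI : IsScalarTower R S N := IsScalarTower.of_algebraMap_smul fun _ _ => rfl
  haveI : IsScalarTower R' S N := IsScalarTower.of_algebraMap_smul fun _ _ => rfl
  haveI : IsScalarTower R R' M' := IsScalarTower.of_algebraMap_smul fun _ _ => rfl
  haveI : IsScalarTower R R' N := IsScalarTower.of_algebraMap_smul fun _ _ => rfl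
  let e₁ : M →ₗ[R] M' := { toFun := eM, map_add' := map_add eM, map_smul' := hM }
  have h1 : IsBaseChange R' e₁ := by
    refine IsBaseChange.of_lift_unique _ fun Q _ _ _ _ i => ?_
    refine ⟨{ toFun := fun m => i (eM.symm m), map_add' := fun a b => by simp,
              map_smul' := fun a m => ?_ }, LinearMap.ext fun m => by simp [e₁], fun g₁ hg₁ => LinearMap.ext fun m => ?_⟩
    · obtain ⟨a, rfl⟩ := ρ.surjective a
      obtain ⟨m, rfl⟩ := eM.surjective m
      rw [← hM, RingHom.id_apply, AddEquiv.symm_apply_apply, AddEquiv.symm_apply_apply, map_smul]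
      exact (IsScalarTower.algebraMap_smul R' a (i m)).symm
    · obtain ⟨m, rfl⟩ := eM.surjective m
      show g₁ (eM m) = i (eM.symm (eM m))
      rw [AddEquiv.symm_apply_apply]
      exact LinearMap.congr_fun hg₁ m
  have h2 := IsBaseChange.comp h1 (T := S)
    (g := ({ toFun := f', map_add' := f'.map_add, map_smul' := f'.map_smulₛₗ } : M' →ₗ[R'] N)) h
  exact cast (congrArg (IsBaseChange S) (LinearMap.ext fun m => hf m)) h2

section pi

variable {R : Type u} [CommRing R] {ι : Type u} [Finite ι] (P : ι → Type u) [∀ i, AddCommGroup (P i)]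
  [∀ i, Module R (P i)] {M N : Type u} [AddCommGroup M] [Module R M] [AddCommGroup N] [Module R N] (f : M →ₗ[R] N)

theorem lTensor_pi_bijective [Fintype ι] [DecidableEq ι] :
    ((∀ i, Function.Injective (f.lTensor (P i))) → Function.Injective (f.lTensor (∀ i, P i))) ∧
    ((∀ i, Function.Surjective (f.lTensor (P i))) → Function.Surjective (f.lTensor (∀ i, P i))) := by
  let a := TensorProduct.piLeft R M P
  let b := TensorProduct.piLeft R N P
  have hcomm : ∀ t i, b (f.lTensor (∀ i, P i) t) i = f.lTensor (P i) (a t i) := by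
    intro t i
    induction t using TensorProduct.induction_on with
    | zero => simp
    | add u v hu hv => simp only [map_add, Pi.add_apply, hu, hv]
    | tmul p m => simp [a, b]
  refine ⟨fun h u v huv => a.injective (funext fun i => h i ?_), fun h w => ?_⟩
  · rw [← hcomm, ← hcomm, huv]
  · choose c hc using fun i => h i (b w i)
    exact ⟨a.symm c, b.injective (funext fun i => by rw [hcomm, LinearEquiv.apply_symm_apply]; exact hc i)⟩

theorem bijective_of_ff_pi [Module.FaithfullyFlat R (∀ i, P i)] (h : ∀ i, Function.Bijective (f.lTensor (P i))) :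
    Function.Bijective f := by
  classical
  haveI := Fintype.ofFinite ι
  exact ⟨(Module.FaithfullyFlat.lTensor_injective_iff_injective R (∀ i, P i) f).1
      ((lTensor_pi_bijective P f).1 fun i => (h i).1),
    (Module.FaithfullyFlat.lTensor_surjective_iff_surjective R (∀ i, P i) f).1
      ((lTensor_pi_bijective P f).2 fun i => (h i).2)⟩

theorem flat_pi [∀ i, Module.Flat R (P i)] : Module.Flat R (∀ i, P i) := by
  classical
  haveI := Fintype.ofFinite ι
  exact Module.Flat.of_linearEquiv (DFinsupp.linearEquivFunOnFintype (R := R) (M := P)).symm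

theorem flat_of_ff_pi [Module.FaithfullyFlat R (∀ i, P i)] (i : ι) : Module.Flat R (P i) := by
  classical
  exact Module.Flat.of_retract (LinearMap.single R P i) (LinearMap.proj i) (LinearMap.ext fun x => by simp)

end pi

theorem flat_of_ff_comp (R A B : Type u) [CommRing R] [CommRing A] [CommRing B] [Algebra R A] [Algebra A B]
    [Algebra R B] [IsScalarTower R A B] [Module.FaithfullyFlat A B] [Module.Flat R B] : Module.Flat R A := by
  rw [Module.Flat.iff_lTensor_preserves_injective_linearMap]
  intro N P _ _ _ _ f hf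
  show Function.Injective (LinearMap.baseChange A f)
  rw [← Module.FaithfullyFlat.lTensor_injective_iff_injective A B]
  let a := AlgebraTensorModule.cancelBaseChange R A B B N
  let b := AlgebraTensorModule.cancelBaseChange R A B B P
  have hcomm : ∀ t, b ((LinearMap.baseChange A f).lTensor B t) = f.lTensor B (a t) := by
    intro t
    induction t using TensorProduct.induction_on with
    | zero => simp
    | add u v hu hv => simp only [map_add, hu, hv]
    | tmul c y =>
      induction y using TensorProduct.induction_on with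
      | zero => simp
      | add u v hu hv => simp only [TensorProduct.tmul_add, map_add, hu, hv]
      | tmul x m => simp [a, b]
  intro u v huv
  exact a.injective (Module.Flat.lTensor_preserves_injective_linearMap f hf (by rw [← hcomm, ← hcomm, huv]))

variable (X : RSpace.{u}) (U : Set X.pt)

/-- sections over `U` = global sections of the restriction -/
def sectEquiv : X.sectRing U ≃+* (X.restrict U).sectRing Set.univ where
  toFun s := ⟨fun q => s.1 q.1, fun q q' h => s.2 q.1 q'.1 h⟩
  invFun s := ⟨fun q => s.1 ⟨q, trivial⟩, fun q q' h => s.2 ⟨q, trivial⟩ ⟨q', trivial⟩ h⟩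
  left_inv _ := rfl
  right_inv _ := rfl
  map_mul' _ _ := rfl
  map_add' _ _ := rfl

theorem evalMod_isBC (hUa : (X.restrict U).IsAffine) (M : OMod X) (hM : M.IsQcoh) (q : U) :
    IsBCAlong (X.evalRing U q) (M.evalMod U q) :=
  isBC_ringEquiv (sectEquiv X U) (X.evalRing U q) ((X.restrict U).evalRing Set.univ ⟨q, trivial⟩) (fun _ => rfl)
    (M.evalMod U q) ((M.restrict U).evalMod Set.univ ⟨q, trivial⟩)
    { toFun := fun s => ⟨fun w => s.1 w.1, fun w w' h => s.2 w.1 w'.1 h⟩
      invFun := fun s => ⟨fun w => s.1 ⟨w, trivial⟩, fun w w' h => s.2 ⟨w, trivial⟩ ⟨w', trivial⟩ h⟩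
      left_inv := fun _ => rfl
      right_inv := fun _ => rfl
      map_add' := fun _ _ => rfl }
    (fun _ _ => rfl) (fun _ => rfl)
    (hUa.2.2.1 (M.restrict U) (fun p q h => hM p.1 q.1 h) q)

theorem resSect_isBC (x : X.pt) (hU : U ⊆ X.up x) (hUa : (X.restrict U).IsAffine)
    (hff : Module.FaithfullyFlat (X.sectRing U) ((q : ↥U) → X.ring q.1)) (M : OMod X) (hM : M.IsQcoh) :
    IsBCAlong (X.resSect x U hU) (M.resSect x U hU) := by
  letI : Algebra (X.ring x) (X.sectRing U) := (X.resSect x U hU).toAlgebra
  letI : Module (X.ring x) (M.sect U) := Module.compHom _ (X.resSect x U hU)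
  haveI : IsScalarTower (X.ring x) (X.sectRing U) (M.sect U) := IsScalarTower.of_algebraMap_smul fun _ _ => rfl
  let F : M.carrier x →ₗ[X.ring x] M.sect U :=
    { toFun := M.resSect x U hU, map_add' := map_add _, map_smul' := LinearMap.map_smulₛₗ _ }
  let L : X.sectRing U ⊗[X.ring x] M.carrier x →ₗ[X.sectRing U] M.sect U := LinearMap.liftBaseChange _ F
  have hL : Function.Bijective L := by
    letI : ∀ q : U, Module (X.sectRing U) (X.ring q.1) := fun q => Module.compHom _ (X.evalRing U q)
    haveI : Module.FaithfullyFlat (X.sectRing U) ((q : ↥U) → X.ring q.1) := hff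
    refine bijective_of_ff_pi (fun q : U => X.ring q.1) L fun q => ?_
    letI : Algebra (X.sectRing U) (X.ring q.1) := (X.evalRing U q).toAlgebra
    letI : Algebra (X.ring x) (X.ring q.1) := (X.res (hU q.2)).toAlgebra
    letI : Module (X.sectRing U) (M.carrier q.1) := Module.compHom _ (X.evalRing U q)
    letI : Module (X.ring x) (M.carrier q.1) := Module.compHom _ (X.res (hU q.2))
    haveI : IsScalarTower (X.ring x) (X.sectRing U) (X.ring q.1) := IsScalarTower.of_algebraMap_eq fun _ => rfl
    haveI : IsScalarTower (X.sectRing U) (X.ring q.1) (M.carrier q.1) := IsScalarTower.of_algebraMap_smul fun _ _ => rfl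
    haveI : IsScalarTower (X.ring x) (X.ring q.1) (M.carrier q.1) := IsScalarTower.of_algebraMap_smul fun _ _ => rfl
    haveI : IsScalarTower (X.ring x) (X.sectRing U) (M.carrier q.1) := IsScalarTower.of_algebraMap_smul fun _ _ => rfl
    let ev : M.sect U →ₗ[X.sectRing U] M.carrier q.1 :=
      { toFun := M.evalMod U q, map_add' := map_add _, map_smul' := LinearMap.map_smulₛₗ _ }
    have hev : IsBaseChange (X.ring q.1) ev := evalMod_isBC X U hUa M hM q
    have hres : IsBaseChange (X.ring q.1) ((ev.restrictScalars (X.ring x)).comp F) := hM x q.1 (hU q.2)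
    let e₁ := AlgebraTensorModule.cancelBaseChange (X.ring x) (X.sectRing U) (X.ring q.1) (X.ring q.1) (M.carrier x)
    have hcomm : ∀ t, hev.equiv (L.lTensor (X.ring q.1) t) = hres.equiv (e₁ t) := by
      intro t
      induction t using TensorProduct.induction_on with
      | zero => simp
      | add u v hu hv => simp only [map_add, hu, hv]
      | tmul c y =>
        induction y using TensorProduct.induction_on with
        | zero => simp
        | add u v hu hv => simp only [TensorProduct.tmul_add, map_add, hu, hv]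
        | tmul a m =>
          simp only [LinearMap.lTensor_tmul, e₁, AlgebraTensorModule.cancelBaseChange_tmul, IsBaseChange.equiv_tmul,
            L, LinearMap.liftBaseChange_tmul, map_smul, LinearMap.comp_apply, LinearMap.restrictScalars_apply]
          rw [smul_assoc, smul_comm]
    constructor
    · intro u v huv
      exact e₁.injective (hres.equiv.injective (by rw [← hcomm, ← hcomm, huv]))
    · intro w
      obtain ⟨t, ht⟩ := (e₁.trans (hres.equiv.restrictScalars _)).surjective (hev.equiv w)
      exact ⟨t, hev.equiv.injective (by rw [hcomm]; exact ht)⟩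
  exact IsBaseChange.of_equiv (LinearEquiv.ofBijective L hL) fun m => by simp [L, F]

section alg

variable (A : Alg X) (hA : A.IsQcoh) (hUa : (X.restrict U).IsAffine)

/-- value of an algebra section at a point -/
def valA (s : A.total.sectRing U) (q : U) : A.carrier q.1 := s.1 q

include hA hUa in
theorem alg_eval_equiv (q : U) :
    letI := (A.sectMap U).toAlgebra
    letI := (X.evalRing U q).toAlgebra
    ∃ e : X.ring q.1 ⊗[X.sectRing U] A.total.sectRing U ≃ₗ[X.ring q.1] A.carrier q.1,
      ∀ (c : X.ring q.1) (s : A.total.sectRing U), e (c ⊗ₜ s) = c • valA X U A s q := by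
  letI := (A.sectMap U).toAlgebra
  letI := (X.evalRing U q).toAlgebra
  letI : Module (X.sectRing U) (A.carrier q.1) := Module.compHom _ (X.evalRing U q)
  haveI : IsScalarTower (X.sectRing U) (X.ring q.1) (A.carrier q.1) := IsScalarTower.of_algebraMap_smul fun _ _ => rfl
  let ev : A.toMod.sect U →ₗ[X.sectRing U] A.carrier q.1 :=
    { toFun := fun s => s.1 q, map_add' := fun _ _ => rfl, map_smul' := fun _ _ => rfl }
  have hev : IsBaseChange (X.ring q.1) ev := evalMod_isBC X U hUa A.toMod hA q
  let e₀ : A.total.sectRing U ≃ₗ[X.sectRing U] A.toMod.sect U :=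
    { toFun := fun s => ⟨s.1, s.2⟩, invFun := fun s => ⟨s.1, s.2⟩, map_add' := fun _ _ => rfl,
      map_smul' := fun a s => Subtype.ext (funext fun w => (Algebra.smul_def (R := X.ring w.1) (A := A.carrier w.1) (a.1 w) (valA X U A s w)).symm) }
  refine ⟨(AlgebraTensorModule.congr (LinearEquiv.refl (X.ring q.1) (X.ring q.1)) e₀).trans hev.equiv, fun c s => ?_⟩
  simp [IsBaseChange.equiv_tmul, ev, e₀]
  rfl

variable (hφ : Module.FaithfullyFlat (X.sectRing U) ((q : ↥U) → X.ring q.1))

include hA hUa hφ

theorem finite_iff :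
    (∀ q : X.pt, q ∈ U → Module.Finite (X.ring q) (A.carrier q)) ↔ (A.sectMap U).Finite := by
  classical
  letI := (A.sectMap U).toAlgebra
  constructor
  · intro h
    choose s hs using fun q : U => (h q.1 q.2).fg_top
    have hgen : ∀ q : U, ∀ a ∈ s q, ∃ N : Submodule (X.sectRing U) (A.total.sectRing U), N.FG ∧
        (letI := (X.evalRing U q).toAlgebra
         a ∈ Submodule.span (X.ring q.1) ((fun t : A.total.sectRing U => valA X U A t q) '' (N : Set (A.total.sectRing U)))) := by
      intro q a _
      letI := (X.evalRing U q).toAlgebra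
      obtain ⟨e, he⟩ := alg_eval_equiv X U A hA hUa q
      obtain ⟨S, hsum⟩ := TensorProduct.exists_finset (e.symm a)
      refine ⟨Submodule.span _ (Prod.snd '' (↑S : Set (X.ring q.1 × A.total.sectRing U))), Submodule.fg_span ((Finset.finite_toSet S).image _), ?_⟩
      rw [← e.apply_symm_apply a, hsum, map_sum]
      refine Submodule.sum_mem _ fun i hi => ?_
      rw [he]
      exact Submodule.smul_mem _ _ (Submodule.subset_span ⟨i.2, Submodule.subset_span ⟨i, hi, rfl⟩, rfl⟩)
    choose N hN hmem using hgen
    haveI : Fintype U := Fintype.ofFinite U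
    let N₀ : Submodule (X.sectRing U) (A.total.sectRing U) := ⨆ q : U, ⨆ a : {a // a ∈ s q}, N q a.1 a.2
    have hN₀ : N₀.FG := Submodule.fg_iSup _ fun q => Submodule.fg_iSup _ fun a => hN q a.1 a.2
    letI : ∀ q : U, Module (X.sectRing U) (X.ring q.1) := fun q => Module.compHom _ (X.evalRing U q)
    haveI : Module.FaithfullyFlat (X.sectRing U) ((q : ↥U) → X.ring q.1) := hφ
    have hsurj : Function.Surjective N₀.subtype := by
      refine (Module.FaithfullyFlat.lTensor_surjective_iff_surjective (X.sectRing U) ((q : ↥U) → X.ring q.1) _).1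
        ((lTensor_pi_bijective (fun q : U => X.ring q.1) N₀.subtype).2 fun q w => ?_)
      letI := (X.evalRing U q).toAlgebra
      obtain ⟨e, he⟩ := alg_eval_equiv X U A hA hUa q
      let Rg : Submodule (X.ring q.1) (X.ring q.1 ⊗[X.sectRing U] A.total.sectRing U) :=
        LinearMap.range (N₀.subtype.baseChange (X.ring q.1))
      suffices w ∈ Rg by obtain ⟨v, hv⟩ := this; exact ⟨v, hv⟩
      suffices e w ∈ Rg.map e.toLinearMap by
        obtain ⟨v, hv, hve⟩ := this; rwa [e.injective hve] at hv
      have hall : (⊤ : Submodule (X.ring q.1) (A.carrier q.1)) ≤ Rg.map e.toLinearMap := by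
        rw [← hs q, Submodule.span_le]
        intro a ha
        refine Submodule.span_le.2 ?_ (hmem q a ha)
        rintro _ ⟨t, ht, rfl⟩
        refine ⟨1 ⊗ₜ t, ⟨1 ⊗ₜ ⟨t, ?_⟩, by simp⟩, by simp [he]⟩
        exact Submodule.mem_iSup_of_mem q (Submodule.mem_iSup_of_mem ⟨a, ha⟩ ht)
      exact hall trivial
    show Module.Finite (X.sectRing U) (A.total.sectRing U)
    haveI : Module.Finite (X.sectRing U) N₀ := Module.Finite.iff_fg.2 hN₀
    exact Module.Finite.of_surjective N₀.subtype hsurj
  · intro h q hq
    haveI : Module.Finite (X.sectRing U) (A.total.sectRing U) := h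
    letI := (X.evalRing U ⟨q, hq⟩).toAlgebra
    obtain ⟨e, -⟩ := alg_eval_equiv X U A hA hUa ⟨q, hq⟩
    exact Module.Finite.equiv e

omit hφ in
theorem flat_point (h : (A.sectMap U).Flat) (q : U) : Module.Flat (X.ring q.1) (A.carrier q.1) := by
  letI := (A.sectMap U).toAlgebra
  haveI : Module.Flat (X.sectRing U) (A.total.sectRing U) := h
  letI := (X.evalRing U q).toAlgebra
  obtain ⟨e, -⟩ := alg_eval_equiv X U A hA hUa q
  exact Module.Flat.of_linearEquiv e.symm

variable (hψ : (A.total.sectRing U).subtype.FaithfullyFlat)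

include hψ

theorem flat_iff : (∀ q : X.pt, q ∈ U → Module.Flat (X.ring q) (A.carrier q)) ↔ (A.sectMap U).Flat := by
  refine ⟨fun h => ?_, fun h q hq => flat_point X U A hA hUa h ⟨q, hq⟩⟩
  letI := (A.sectMap U).toAlgebra
  letI : Algebra (A.total.sectRing U) ((q : ↥U) → A.carrier q.1) := ((A.total.sectRing U).subtype).toAlgebra
  haveI : Module.FaithfullyFlat (A.total.sectRing U) ((q : ↥U) → A.carrier q.1) := hψ
  letI : ∀ q : U, Algebra (X.sectRing U) (A.carrier q.1) := fun q =>
    ((algebraMap (X.ring q.1) (A.carrier q.1)).comp (X.evalRing U q)).toAlgebra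
  haveI : ∀ q : U, Module.Flat (X.sectRing U) (A.carrier q.1) := fun q => by
    letI := (X.evalRing U q).toAlgebra
    haveI : IsScalarTower (X.sectRing U) (X.ring q.1) (A.carrier q.1) := IsScalarTower.of_algebraMap_eq fun _ => rfl
    haveI := h q.1 q.2
    letI : ∀ q : U, Module (X.sectRing U) (X.ring q.1) := fun q => Module.compHom _ (X.evalRing U q)
    haveI : Module.FaithfullyFlat (X.sectRing U) ((q : ↥U) → X.ring q.1) := hφ
    haveI : Module.Flat (X.sectRing U) (X.ring q.1) := flat_of_ff_pi (fun q : U => X.ring q.1) q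
    exact Module.Flat.trans (X.sectRing U) (X.ring q.1) (A.carrier q.1)
  haveI : Module.Flat (X.sectRing U) ((q : ↥U) → A.carrier q.1) := flat_pi _
  haveI : IsScalarTower (X.sectRing U) (A.total.sectRing U) ((q : ↥U) → A.carrier q.1) :=
    IsScalarTower.of_algebraMap_eq fun _ => rfl
  exact flat_of_ff_comp (X.sectRing U) (A.total.sectRing U) ((q : ↥U) → A.carrier q.1)

theorem faithfullyFlat_iff :
    (∀ q : X.pt, q ∈ U → Module.FaithfullyFlat (X.ring q) (A.carrier q)) ↔ (A.sectMap U).FaithfullyFlat := by
  classical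
  constructor
  · intro h
    rw [RingHom.FaithfullyFlat.iff_flat_and_comap_surjective]
    refine ⟨(flat_iff X U A hA hUa hφ hψ).1 fun q hq => (h q hq).toFlat, fun r => ?_⟩
    haveI : Module.FaithfullyFlat (X.sectRing U) ((q : ↥U) → X.ring q.1) := hφ
    obtain ⟨p, hp⟩ := PrimeSpectrum.comap_surjective_of_faithfullyFlat
      (A := X.sectRing U) (B := (q : ↥U) → X.ring q.1) r
    haveI := Fintype.ofFinite U
    obtain ⟨q, p', rfl⟩ := exists_comap_eval p
    haveI := h q.1 q.2
    obtain ⟨Q, rfl⟩ := PrimeSpectrum.comap_surjective_of_faithfullyFlat (A := X.ring q.1) (B := A.carrier q.1) p'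
    exact ⟨PrimeSpectrum.comap (A.total.evalRing U q) Q, hp⟩
  · intro h q hq
    haveI : letI := (A.sectMap U).toAlgebra; Module.FaithfullyFlat (X.sectRing U) (A.total.sectRing U) := h
    letI := (A.sectMap U).toAlgebra
    letI := (X.evalRing U ⟨q, hq⟩).toAlgebra
    obtain ⟨e, -⟩ := alg_eval_equiv X U A hA hUa ⟨q, hq⟩
    exact Module.FaithfullyFlat.of_linearEquiv (X.ring q) (X.ring q ⊗[X.sectRing U] A.total.sectRing U) e.symm

end alg

end Groth.Agent.SF97
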