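import Groth.Agent.SF97.EtCut
import Mathlib.CategoryTheory.Galois.Basic

/-! Ranks and fibre functors of etale covers. -/

set_option autoImplicit false
universe u

noncomputable section

open TensorProduct CategoryTheory Limits CommAlgCat SchFin Opposite

namespace Groth.Agent.SF97

variable {X : RSpace.{u}}

instance instModFlatCov (A : FEt X) (p : X.pt) : Module.Flat (X.ring p) (A.obj.carrier p) :=
  haveI := (A.property.2 p).2
  Algebra.Smooth.flat _ _

instance instModFinCov (A : FEt X) (p : X.pt) : Module.Finite (X.ring p) (A.obj.carrier p) := (A.property.2 p).1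

theorem eq_of_forall_le (hwc : X.IsWellConnected) {α : Type} (n : X.pt → α)
    (hn : ∀ p q : X.pt, p ≤ q → n p = n q) (p q : X.pt) : n p = n q := by
  classical
  let s : X.sectRing Set.univ := ⟨fun r => if n r.1 = n p then 1 else 0, fun r r' h => by
    show X.res h (if n r.1 = n p then 1 else 0) = if n r'.1 = n p then 1 else 0
    rw [hn r.1 r'.1 h]
    split_ifs <;> simp⟩
  have hs : IsIdempotentElem s := Subtype.ext (funext fun r => by
    show (if n r.1 = n p then (1 : X.ring r.1) else 0) * (if n r.1 = n p then 1 else 0) = if n r.1 = n p then 1 else 0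
    split_ifs <;> simp)
  haveI : ConnectedSpace (PrimeSpectrum (X.sectRing Set.univ)) := hwc.1
  have hnt : ∀ r : X.pt, Nontrivial (X.ring r) := fun r => by
    haveI := hwc.2 r
    exact PrimeSpectrum.nonempty_iff_nontrivial.1 inferInstance
  haveI := hnt p
  haveI := hnt q
  by_contra hne
  have hcl : IsClopen (PrimeSpectrum.basicOpen s : Set (PrimeSpectrum (X.sectRing Set.univ))) :=
    PrimeSpectrum.isClopen_iff.2 ⟨s, hs, rfl⟩
  rcases isClopen_iff.1 hcl with h | h
  · have : IsNilpotent s := PrimeSpectrum.basicOpen_eq_bot_iff s |>.1 (SetLike.coe_injective h)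
    have h0 : s = 0 := hs.eq_zero_of_isNilpotent this
    have := congrFun (congrArg Subtype.val h0) ⟨p, trivial⟩
    simp [s] at this
  · have h' : IsUnit s := by
      by_contra hu
      obtain ⟨M, hM, hsM⟩ := exists_max_ideal_of_mem_nonunits hu
      exact (show (⟨M, hM.isPrime⟩ : PrimeSpectrum _) ∈ (PrimeSpectrum.basicOpen s : Set _) from h ▸ trivial) hsM
    have h1 : s = 1 := (IsIdempotentElem.iff_eq_one_of_isUnit h').1 hs
    have := congrFun (congrArg Subtype.val h1) ⟨q, trivial⟩
    simp [s, Ne.symm hne] at this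

/-- ranks of an etale cover are constant on a well-connected space -/
theorem rank_const (hwc : X.IsWellConnected) (A : FEt X) (p q : X.pt) (P : PrimeSpectrum (X.ring p))
    (Q : PrimeSpectrum (X.ring q)) :
    Module.rankAtStalk (A.obj.carrier p) P = Module.rankAtStalk (A.obj.carrier q) Q := by
  have hc : ∀ (r : X.pt) (P P' : PrimeSpectrum (X.ring r)),
      Module.rankAtStalk (A.obj.carrier r) P = Module.rankAtStalk (A.obj.carrier r) P' := by
    intro r P P'
    haveI := hwc.2 r
    haveI : Algebra.Etale (X.ring r) (A.obj.carrier r) := (A.property.2 r).2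
    haveI : Module.FinitePresentation (X.ring r) (A.obj.carrier r) := FEt83.modFP _
    exact (Module.isLocallyConstant_rankAtStalk (R := X.ring r)).apply_eq_of_preconnectedSpace P P'
  have hne : ∀ r : X.pt, Nonempty (PrimeSpectrum (X.ring r)) := fun r => by
    haveI := hwc.2 r; infer_instance
  have := eq_of_forall_le hwc (fun r => Module.rankAtStalk (A.obj.carrier r) (hne r).some) (fun r r' h => ?_) p q
  · rw [hc p P (hne p).some, hc q Q (hne q).some]; exact this
  · letI := (X.res h).toAlgebra
    letI : Module (X.ring r) (A.obj.carrier r') := Module.compHom _ (X.res h)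
    haveI : IsScalarTower (X.ring r) (X.ring r') (A.obj.carrier r') :=
      IsScalarTower.of_algebraMap_smul fun _ _ => rfl
    let L : A.obj.carrier r →ₗ[X.ring r] A.obj.carrier r' :=
      { toFun := A.obj.toMod.res h, map_add' := map_add (A.obj.toMod.res h),
        map_smul' := LinearMap.map_smulₛₗ (A.obj.toMod.res h) }
    have hL : IsBaseChange (X.ring r') L := A.property.1 r r' h
    rw [Module.rankAtStalk_isBaseChange hL]
    exact hc r _ _

theorem isIso_of_rank {A B : FEt X} (f : A ⟶ B) (hf : ∀ p, Function.Injective (f.hom.app p))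
    (hr : ∀ (p : X.pt) (P : PrimeSpectrum (X.ring p)),
      Module.rankAtStalk (A.obj.carrier p) P = Module.rankAtStalk (B.obj.carrier p) P) : IsIso f := by
  haveI : ∀ p, Algebra.Etale (X.ring p) (A.obj.carrier p) := fun p => (A.property.2 p).2
  haveI : ∀ p, Algebra.Etale (X.ring p) (B.obj.carrier p) := fun p => (B.property.2 p).2
  let E := fun p => AlgEquiv.ofBijective (f.hom.app p) (bijective_of_injective_of_rank (f.hom.app p) (hf p) (hr p))
  refine ⟨⟨homOfApp (fun p => ObjectProperty.homMk (CommAlgCat.ofHom (E p).symm.toAlgHom)) fun {p q} h b => ?_,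
    evF_ext fun p => ObjectProperty.hom_ext _ (CommAlgCat.hom_ext (AlgHom.ext fun a => (E p).symm_apply_apply a)),
    evF_ext fun p => ObjectProperty.hom_ext _ (CommAlgCat.hom_ext (AlgHom.ext fun a => (E p).apply_symm_apply a))⟩⟩
  apply (E q).injective
  refine Eq.trans ?_ ((E q).apply_symm_apply _).symm
  exact (f.hom.compat h _).symm.trans (congrArg (B.obj.res h) ((E p).apply_symm_apply b))

@[reducible] def finCatSingleObj (G : Type) [Group G] [Finite G] : FinCategory (SingleObj G) where
  fintypeObj := inferInstanceAs (Fintype PUnit)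
  fintypeHom _ _ := Fintype.ofFinite G

theorem hasColimits_singleObj (G : Type u) [Group G] [Finite G] : HasColimitsOfShape (SingleObj G) (FEt X)ᵒᵖ := by
  obtain ⟨G', hg, hf, ⟨e⟩⟩ := Finite.exists_type_univ_nonempty_mulEquiv.{u, 0} G
  letI := finCatSingleObj G'
  exact hasColimitsOfShape_of_equivalence e.toSingleObjEquiv.symm

theorem hasLimits_singleObj (G : Type u) [Group G] [Finite G] : HasLimitsOfShape (SingleObj G) (FEt X) := by
  obtain ⟨G', hg, hf, ⟨e⟩⟩ := Finite.exists_type_univ_nonempty_mulEquiv.{u, 0} G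
  letI := finCatSingleObj G'
  exact hasLimitsOfShape_of_equivalence e.toSingleObjEquiv.symm

theorem preGalois (hX : X.IsSchematic)
    (hepi : ∀ (A B : FEt X) (f : A ⟶ B), Epi f → ∀ p : X.pt, Function.Surjective (f.hom.app p)) :
    PreGaloisCategory (FEt X)ᵒᵖ where
  hasQuotientsByFiniteGroups G _ _ :=
    hasColimits_singleObj G
  monoInducesIsoOnDirectSummand {Y Z} i _ := by
    haveI : Epi i.unop := inferInstance
    obtain ⟨D, π, ⟨hl⟩⟩ := exists_compl hX i.unop (hepi _ _ i.unop inferInstance)
    exact ⟨Opposite.op D, π.op, ⟨BinaryFan.IsLimit.op hl⟩⟩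

variable {Ω : Type u} [Field Ω] [IsAlgClosed Ω] (ξ : GeomPt X Ω)

/-- base change of covers to the field of a geometric point -/
def fibAlg : FEt X ⥤ FiniteEtale.{u} Ω :=
  letI := ξ.toField.toAlgebra
  evF X ξ.base ⋙ FiniteEtale.baseChange (X.ring ξ.base) Ω

instance : PreservesFiniteLimits (fibAlg ξ) :=
  letI := ξ.toField.toAlgebra
  comp_preservesFiniteLimits (evF X ξ.base) (FiniteEtale.baseChange (X.ring ξ.base) Ω)

instance : PreservesFiniteColimits (fibAlg ξ) :=
  letI := ξ.toField.toAlgebra
  comp_preservesFiniteColimits (evF X ξ.base) (FiniteEtale.baseChange (X.ring ξ.base) Ω)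

def fibIso : (fibAlg ξ).op ⋙ FiniteEtale.finiteSpec Ω ≅ ξ.fibFunctor :=
  NatIso.ofComponents (fun A => FintypeCat.equivEquivIso (Equiv.refl _)) fun _ => rfl

instance : PreservesFiniteLimits ξ.fibFunctor := by
  haveI : PreservesFiniteLimits (fibAlg ξ).op := preservesFiniteLimits_op _
  haveI := comp_preservesFiniteLimits (fibAlg ξ).op (FiniteEtale.finiteSpec.{u} Ω)
  exact preservesFiniteLimits_of_natIso (fibIso ξ)

instance : PreservesFiniteColimits ξ.fibFunctor := by
  haveI : PreservesFiniteColimits (fibAlg ξ).op := preservesFiniteColimits_op _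
  haveI := comp_preservesFiniteColimits (fibAlg ξ).op (FiniteEtale.finiteSpec.{u} Ω)
  exact preservesFiniteColimits_of_natIso (fibIso ξ)

theorem fib_preserves :
    PreservesLimitsOfShape (Discrete PEmpty.{1}) ξ.fibFunctor ∧ PreservesLimitsOfShape WalkingCospan ξ.fibFunctor ∧
      PreservesFiniteCoproducts ξ.fibFunctor ∧ ξ.fibFunctor.PreservesEpimorphisms :=
  ⟨inferInstance, inferInstance, inferInstance, preservesEpimorphisms_of_preservesColimitsOfShape _⟩

theorem preservesColimits_singleObj (G : Type u) [Group G] [Finite G] :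
    PreservesColimitsOfShape (SingleObj G) ξ.fibFunctor := by
  obtain ⟨G', hg, hf, ⟨e⟩⟩ := Finite.exists_type_univ_nonempty_mulEquiv.{u, 0} G
  letI := finCatSingleObj G'
  exact preservesColimitsOfShape_of_equiv e.toSingleObjEquiv.symm _

theorem fiberFunctor (hX : X.IsSchematic) (hwc : X.IsWellConnected) [PreGaloisCategory (FEt X)ᵒᵖ]
    (hrefl : ξ.fibFunctor.ReflectsIsomorphisms) : PreGaloisCategory.FiberFunctor ξ.fibFunctor where
  preservesEpis := (fib_preserves ξ).2.2.2
  preservesQuotientsByFiniteGroups G _ _ :=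
    preservesColimits_singleObj ξ G

theorem rank_eq_fib (A : FEt X) :
    letI := ξ.toField.toAlgebra
    Module.finrank Ω (Ω ⊗[X.ring ξ.base] A.obj.carrier ξ.base) =
      Module.rankAtStalk (A.obj.carrier ξ.base) ⟨RingHom.ker ξ.toField, RingHom.ker_isPrime _⟩ := by
  letI := ξ.toField.toAlgebra
  haveI : Module.Free Ω (Ω ⊗[X.ring ξ.base] A.obj.carrier ξ.base) := Module.Free.of_divisionRing _ _
  have h := Module.rankAtStalk_baseChange (R := X.ring ξ.base) (M := A.obj.carrier ξ.base) (S := Ω)
    (⟨⊥, Ideal.isPrime_bot⟩ : PrimeSpectrum Ω)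
  rw [Module.rankAtStalk_eq_finrank_of_free] at h
  exact h.trans (congrArg _ (PrimeSpectrum.ext rfl))

theorem reflects (hX : X.IsSchematic) (hwc : X.IsWellConnected) : ξ.fibFunctor.ReflectsIsomorphisms := by
  refine ⟨fun {A B} f hf => ?_⟩
  haveI : IsIso ((fibIso ξ).hom.app A ≫ ξ.fibFunctor.map f) := inferInstance
  haveI : IsIso ((FiniteEtale.finiteSpec Ω).map ((fibAlg ξ).op.map f)) := by
    have := (fibIso ξ).hom.naturality f
    haveI : IsIso (((fibAlg ξ).op ⋙ FiniteEtale.finiteSpec Ω).map f ≫ (fibIso ξ).hom.app B) := by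
      rw [this]; infer_instance
    exact IsIso.of_isIso_comp_right (((fibAlg ξ).op ⋙ FiniteEtale.finiteSpec Ω).map f) ((fibIso ξ).hom.app B)
  haveI : IsIso ((fibAlg ξ).op.map f) := isIso_of_reflects_iso _ (FiniteEtale.finiteSpec.{u} Ω)
  haveI : IsIso ((fibAlg ξ).map f.unop) := by
    change IsIso ((fibAlg ξ).map f.unop).op at this
    exact isIso_of_op _
  have hb := bijective_of_isIso ((fibAlg ξ).map f.unop)
  letI := ξ.toField.toAlgebra
  set g : B.unop ⟶ A.unop := f.unop with hg
  have hcomm : ∀ c a, ((fibAlg ξ).map g).hom.hom (c ⊗ₜ[X.ring ξ.base] a) = c ⊗ₜ g.hom.app ξ.base a :=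
    fun _ _ => rfl
  obtain ⟨t, ht⟩ := exists_ker hX g
  have hrk : ∀ (p : X.pt) (P : PrimeSpectrum (X.ring p)), Module.rankAtStalk (B.unop.obj.carrier p) P = Module.rankAtStalk (A.unop.obj.carrier p) P := by
    intro p P
    rw [rank_const hwc B.unop p ξ.base P ⟨RingHom.ker ξ.toField, RingHom.ker_isPrime _⟩,
      rank_const hwc A.unop p ξ.base P ⟨RingHom.ker ξ.toField, RingHom.ker_isPrime _⟩,
      ← rank_eq_fib ξ B.unop, ← rank_eq_fib ξ A.unop]
    exact (LinearEquiv.ofBijective ((fibAlg ξ).map g).hom.hom.toLinearMap hb).finrank_eq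
  have hinj : ∀ p, Function.Injective (g.hom.app p) := by
    intro p
    have hzero : Subsingleton (Ω ⊗[X.ring ξ.base] (cutData t.compl).obj.obj.carrier ξ.base) := by
      have he : (1 : Ω) ⊗ₜ[X.ring ξ.base] t.e ξ.base = (0 : Ω ⊗[X.ring ξ.base] B.unop.obj.carrier ξ.base) :=
        hb.1 (((hcomm _ _).trans ((congrArg (fun y : A.unop.obj.carrier ξ.base => (1 : Ω) ⊗ₜ[X.ring ξ.base] y)
          (apply_eq_zero_of_ker (ht ξ.base))).trans (TensorProduct.tmul_zero _ _))).trans
          (map_zero _).symm)
      have h1 : (cutπ t.compl).hom.app ξ.base (t.e ξ.base) = 1 := by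
        have := cutπ_eq_zero t.compl ξ.base
        change (cutπ t.compl).hom.app ξ.base (1 - t.e ξ.base) = 0 at this
        rw [map_sub, map_one, sub_eq_zero] at this
        exact this.symm
      refine subsingleton_of_zero_eq_one ?_
      have := congrArg (((cutπ t.compl).hom.app ξ.base).toLinearMap.lTensor Ω) he
      rw [map_zero, LinearMap.lTensor_tmul, AlgHom.toLinearMap_apply, h1] at this
      exact this.symm
    have hr : Module.rankAtStalk (R := X.ring p) ((cutData t.compl).obj.obj.carrier p) = 0 := funext fun P => by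
      rw [rank_const hwc _ p ξ.base P ⟨RingHom.ker ξ.toField, RingHom.ker_isPrime _⟩, ← rank_eq_fib ξ]
      exact Module.finrank_zero_of_subsingleton
    haveI : Subsingleton ((cutData t.compl).obj.obj.carrier p) := Module.rankAtStalk_eq_zero_iff_subsingleton.1 hr
    have h2 : t.e p ∈ Ideal.span {1 - t.e p} :=
      Ideal.Quotient.eq_zero_iff_mem.1 ((cutπ_apply t.compl p _).symm.trans (Subsingleton.elim _ _))
    obtain ⟨c, hc⟩ := Ideal.mem_span_singleton.1 h2
    have h3 : t.e p = 0 := by
      have := congrArg (t.e p * ·) hc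
      simpa [← mul_assoc, mul_sub, (t.idem p).eq] using this
    show Function.Injective (g.hom.app p).toRingHom
    rw [RingHom.injective_iff_ker_eq_bot, ht p, h3, Ideal.span_singleton_eq_bot]
  haveI := isIso_of_rank g hinj hrk
  exact (isIso_op_iff g).2 inferInstance

end Groth.Agent.SF97
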