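import Groth.Agent.SF97.H0
import Groth.Prelude.Def_SchFin2
import Mathlib.RingTheory.RingHom.Flat
import Mathlib.RingTheory.Flat.FaithfullyFlat.Algebra
import Mathlib.RingTheory.Flat.FaithfullyFlat.Descent
import Mathlib.RingTheory.Spectrum.Prime.Topology

/-! Schematic finite spaces: restrictions are flat epimorphisms, sections over intersections. -/

set_option autoImplicit false
universe u

noncomputable section

open TensorProduct SchFin

namespace Groth.Agent.SF97

variable (X : RSpace.{u}) (hX : X.IsSchematic)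

/-- `O_x ⊗_{O_s} O_y → Γ(U_x ∩ U_y)` -/
def pairMap {s x y : X.pt} (hx : s ≤ x) (hy : s ≤ y) :
    letI := (X.res hx).toAlgebra
    letI := (X.res hy).toAlgebra
    X.ring x ⊗[X.ring s] X.ring y →+* X.sectRing (X.up x ∩ X.up y) :=
  letI := (X.res hx).toAlgebra
  letI := (X.res hy).toAlgebra
  letI : Algebra (X.ring s) (X.sectRing (X.up x ∩ X.up y)) :=
    ((X.resSect x (X.up x ∩ X.up y) Set.inter_subset_left).comp (X.res hx)).toAlgebra
  (Algebra.TensorProduct.lift
    (R := X.ring s) (S := X.ring s)
    { toRingHom := X.resSect x (X.up x ∩ X.up y) Set.inter_subset_left, commutes' := fun _ => rfl }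
    { toRingHom := X.resSect y (X.up x ∩ X.up y) Set.inter_subset_right
      commutes' := fun a => Subtype.ext (funext fun q =>
        (X.res_comp hy (Set.inter_subset_right q.2) a).trans (X.res_comp hx (Set.inter_subset_left q.2) a).symm) }
    fun _ _ => Commute.all _ _).toRingHom

theorem pairMap_tmul {s x y : X.pt} (hx : s ≤ x) (hy : s ≤ y) (a : X.ring x) (b : X.ring y)
    (q : ↥(X.up x ∩ X.up y)) :
    letI := (X.res hx).toAlgebra
    letI := (X.res hy).toAlgebra
    (pairMap X hx hy (a ⊗ₜ b)).1 q = X.res (Set.inter_subset_left q.2) a * X.res (Set.inter_subset_right q.2) b :=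
  letI := (X.res hx).toAlgebra
  letI := (X.res hy).toAlgebra
  rfl

include hX

theorem pairMap_bijective {s x y : X.pt} (hx : s ≤ x) (hy : s ≤ y) : Function.Bijective (pairMap X hx hy) := by
  letI := (X.res hx).toAlgebra
  letI := (X.res hy).toAlgebra
  let φ := Coef.ofLE s ((Hom.id X).wedge s y) ((Hom.id X).wedge_subset_up s y)
  let φ' := Coef.ofLE x ((Hom.id X).wedge x y) ((Hom.id X).wedge_subset_up x y)
  let z : (Hom.id X).wedge s y := ⟨y, hy, le_refl y⟩
  let eM : H φ X.str 0 ≃+ X.ring y := h0Least φ z fun q => q.2.2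
  let eN : H φ' X.str 0 ≃+ X.sectRing (X.up x ∩ X.up y) :=
    (h0 φ' X.str).trans { toFun := fun t => ⟨t.1, t.2⟩, invFun := fun t => ⟨t.1, t.2⟩, map_add' := fun _ _ => rfl }
  letI : Module (X.ring s) (H φ' X.str 0) := Module.compHom _ (X.res hx)
  haveI : IsScalarTower (X.ring s) (X.ring x) (H φ' X.str 0) := IsScalarTower.of_algebraMap_smul fun _ _ => rfl
  let eM' : X.ring y ≃ₗ[X.ring s] H φ X.str 0 :=
    ({ __ := eM, map_smul' := fun a c => h0Least_smul φ z _ a c } : H φ X.str 0 ≃ₗ[X.ring s] X.ring y).symm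
  let F : H φ X.str 0 →ₗ[X.ring s] H φ' X.str 0 :=
    { toFun := resH X.str ((Hom.id X).subSrc hx y) 0, map_add' := map_add _, map_smul' := LinearMap.map_smulₛₗ _ }
  have hbc : IsBaseChange (X.ring x) F := (hX.2.2 0 s x hx y y le_rfl).1
  let G : X.ring x ⊗[X.ring s] X.ring y → X.sectRing (X.up x ∩ X.up y) :=
    fun t => eN (hbc.equiv ((TensorProduct.congr (LinearEquiv.refl _ (X.ring x)) eM') t))
  have hG : Function.Bijective G :=
    eN.bijective.comp (hbc.equiv.bijective.comp (TensorProduct.congr _ eM').bijective)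
  suffices ∀ t, pairMap X hx hy t = G t by
    rw [show ⇑(pairMap X hx hy) = G from funext this]; exact hG
  intro t
  induction t using TensorProduct.induction_on with
  | zero => simp [G]
  | add u v hu hv => simp only [G, map_add, hu, hv]
  | tmul a b =>
    simp only [G, TensorProduct.congr_tmul, LinearEquiv.refl_apply, IsBaseChange.equiv_tmul]
    refine Subtype.ext (funext fun q => ?_)
    rw [pairMap_tmul]
    show _ = (h0 φ' X.str (a • resH X.str ((Hom.id X).subSrc hx y) 0 (eM' b))).1 q
    rw [h0_smul]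
    show _ = X.res (Set.inter_subset_left q.2) a • ((h0 φ' X.str (resH X.str ((Hom.id X).subSrc hx y) 0 (eM' b))).1 q)
    rw [h0_resH]
    refine congrArg (fun w : X.ring q.1 => X.res (Set.inter_subset_left q.2) a * w) ?_
    have hb : (h0 φ X.str (eM' b)).1 z = b := eM.apply_symm_apply b
    conv_lhs => rw [← hb]
    exact (h0 φ X.str (eM' b)).2 z ⟨q.1, hx.trans q.2.1, q.2.2⟩ q.2.2

theorem isEpi_res {x y : X.pt} (h : x ≤ y) : letI := (X.res h).toAlgebra; Algebra.IsEpi (X.ring x) (X.ring y) := by
  letI := (X.res h).toAlgebra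
  refine (Algebra.isEpi_iff_forall_one_tmul_eq _ _).2 fun a => (pairMap_bijective X hX h h).1 ?_
  refine Subtype.ext (funext fun q => ?_)
  rw [pairMap_tmul, pairMap_tmul]
  exact mul_comm _ _

theorem ringHom_ext_res {x y : X.pt} (h : x ≤ y) {T : Type u} [CommRing T] (g₁ g₂ : X.ring y →+* T)
    (hg : g₁.comp (X.res h) = g₂.comp (X.res h)) : g₁ = g₂ := by
  letI := (X.res h).toAlgebra
  letI := (g₁.comp (X.res h)).toAlgebra
  ext a
  let φ := Algebra.TensorProduct.lift (R := X.ring x) (S := X.ring x)
    ({ toRingHom := g₁, commutes' := fun _ => rfl } : X.ring y →ₐ[X.ring x] T)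
    { toRingHom := g₂, commutes' := fun r => (RingHom.congr_fun hg r).symm } fun _ _ => Commute.all _ _
  have := congrArg φ ((Algebra.isEpi_iff_forall_one_tmul_eq _ _).1 (isEpi_res X hX h) a)
  simpa [φ] using this.symm

theorem res_flat {x y : X.pt} (h : x ≤ y) : (X.res h).Flat := hX.1.2 x y h

omit hX in
/-- a faithfully flat epimorphism is an isomorphism -/
theorem bijective_of_ff_epi (A B : Type u) [CommRing A] [CommRing B] [Algebra A B] [Module.FaithfullyFlat A B]
    (h : ∀ b : B, (1 : B) ⊗ₜ[A] b = b ⊗ₜ[A] (1 : B)) : Function.Bijective (algebraMap A B) := by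
  refine Module.FaithfullyFlat.bijective_of_tensorProduct (S := B) ⟨fun b b' hb => ?_, fun t => ?_⟩
  · simpa using congrArg (TensorProduct.lift (LinearMap.mul A B)) hb
  · induction t using TensorProduct.induction_on with
    | zero => exact ⟨0, map_zero _⟩
    | add u v hu hv =>
      obtain ⟨a, rfl⟩ := hu; obtain ⟨c, rfl⟩ := hv; exact ⟨a + c, map_add _ _ _⟩
    | tmul a c =>
      refine ⟨a * c, ?_⟩
      calc algebraMap B (B ⊗[A] B) (a * c) = (a ⊗ₜ[A] (1 : B)) * (c ⊗ₜ 1) := by simp
        _ = (a ⊗ₜ[A] (1 : B)) * ((1 : B) ⊗ₜ c) := by rw [h]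
        _ = a ⊗ₜ c := by simp

theorem localRingHom_bijective {x y : X.pt} (h : x ≤ y) (P : Ideal (X.ring y)) [P.IsPrime] :
    Function.Bijective (Localization.localRingHom (P.comap (X.res h)) P (X.res h) rfl) := by
  let f := Localization.localRingHom (P.comap (X.res h)) P (X.res h) rfl
  letI := f.toAlgebra
  haveI : Module.Flat (Localization.AtPrime (P.comap (X.res h))) (Localization.AtPrime P) :=
    RingHom.Flat.localRingHom (res_flat X hX h) P (P.comap (X.res h)) rfl
  haveI : IsLocalHom (algebraMap (Localization.AtPrime (P.comap (X.res h))) (Localization.AtPrime P)) :=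
    inferInstanceAs (IsLocalHom f)
  haveI := Module.FaithfullyFlat.of_flat_of_isLocalHom (A := Localization.AtPrime (P.comap (X.res h)))
    (B := Localization.AtPrime P)
  refine bijective_of_ff_epi _ _ ?_
  let l : Localization.AtPrime P →+* Localization.AtPrime P ⊗[Localization.AtPrime (P.comap (X.res h))] Localization.AtPrime P :=
    Algebra.TensorProduct.includeLeftRingHom
  let r : Localization.AtPrime P →+* Localization.AtPrime P ⊗[Localization.AtPrime (P.comap (X.res h))] Localization.AtPrime P :=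
    (Algebra.TensorProduct.includeRight (R := Localization.AtPrime (P.comap (X.res h))) (A := Localization.AtPrime P)).toRingHom
  have e : r = l := by
    refine IsLocalization.ringHom_ext P.primeCompl (ringHom_ext_res X hX h _ _ (RingHom.ext fun a => ?_))
    simp only [RingHom.comp_apply]
    rw [← Localization.localRingHom_to_map (P.comap (X.res h)) P (X.res h) rfl a]
    show r (algebraMap (Localization.AtPrime (P.comap (X.res h))) (Localization.AtPrime P) _) = l (algebraMap _ _ _)
    simp only [r, l, AlgHom.toRingHom_eq_coe, RingHom.coe_coe, AlgHom.commutes, Algebra.TensorProduct.includeLeftRingHom_apply]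
    rw [Algebra.TensorProduct.algebraMap_apply]
  exact fun b => RingHom.congr_fun e b

theorem κMap_bijective (a b : X.Pair) (h : a.1 ≤ b.1) (hp : PrimeSpectrum.comap (X.res h) b.2 = a.2) :
    Function.Bijective (RSpace.Pair.κMap a b h hp) := by
  obtain ⟨x, p⟩ := a
  obtain ⟨y, P⟩ := b
  change x ≤ y at h
  change PrimeSpectrum.comap (X.res h) P = p at hp
  revert hp
  rintro rfl
  refine ⟨RingHom.injective _, fun t => ?_⟩
  obtain ⟨t, rfl⟩ := IsLocalRing.residue_surjective t
  obtain ⟨a, rfl⟩ := (localRingHom_bijective X hX h P.asIdeal).2 t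
  exact ⟨IsLocalRing.residue _ a, rfl⟩

end Groth.Agent.SF97
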