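import Groth.Agent.SF97.EtRing
import Mathlib.RingTheory.Etale.StandardEtale

/-! Maps of finite etale algebras: kernels are generated by idempotents; rank criterion. -/

set_option autoImplicit false
universe u

noncomputable section

open TensorProduct

namespace Groth.Agent.SF97

variable {R : Type u} [CommRing R] {A B : Type u} [CommRing A] [Algebra R A] [CommRing B] [Algebra R B]

/-- the extension of a semilinear ring map to the base change -/
def semiLift {S : Type u} [CommRing S] [Algebra R S] {T : Type u} [CommRing T] [Algebra S T] (φ : A →+* T)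
    (h : ∀ r, φ (algebraMap R A r) = algebraMap S T (algebraMap R S r)) : S ⊗[R] A →ₐ[S] T :=
  letI : Algebra R T := ((algebraMap S T).comp (algebraMap R S)).toAlgebra
  haveI : IsScalarTower R S T := IsScalarTower.of_algebraMap_eq fun _ => rfl
  Algebra.TensorProduct.lift (Algebra.ofId S T) { toRingHom := φ, commutes' := h } fun _ _ => Commute.all _ _

theorem semiLift_tmul {S : Type u} [CommRing S] [Algebra R S] {T : Type u} [CommRing T] [Algebra S T]
    (φ : A →+* T) (h : ∀ r, φ (algebraMap R A r) = algebraMap S T (algebraMap R S r)) (s : S) (a : A) :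
    semiLift φ h (s ⊗ₜ a) = algebraMap S T s * φ a := rfl

variable [Module.Finite R A] [Algebra.Etale R A] [Module.Finite R B] [Algebra.Etale R B] (f : A →ₐ[R] B)

/-- the kernel of a map of finite etale algebras is generated by an idempotent -/
theorem exists_ker_idem : ∃ e : A, IsIdempotentElem e ∧ RingHom.ker f.toRingHom = Ideal.span {e} := by
  classical
  letI : Algebra A B := f.toRingHom.toAlgebra
  haveI : IsScalarTower R A B := IsScalarTower.of_algebraMap_eq fun r => (f.commutes r).symm
  haveI : Algebra.Etale A B := Algebra.Etale.of_restrictScalars R A B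
  haveI : Module.Finite A B := Module.Finite.of_restrictScalars_finite R A B
  haveI : Module.FinitePresentation A B := FEt83.modFP B
  have hZ : IsClopen ((Module.rankAtStalk (R := A) B) ⁻¹' {0}) :=
    (Module.isLocallyConstant_rankAtStalk).isClopen_fiber 0
  obtain ⟨e, he, heZ⟩ := PrimeSpectrum.isClopen_iff.1 hZ
  refine ⟨e, he, le_antisymm (fun a ha => ?_) ((Ideal.span_singleton_le_iff_mem _).2 ?_)⟩
  · have h1 : a * (1 - e) = 0 := by
      by_contra hne
      let I : Ideal A := LinearMap.ker (LinearMap.toSpanSingleton A A (a * (1 - e)))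
      obtain ⟨P, hP, hIP⟩ := Ideal.exists_le_maximal I (fun htop => hne (by
        have h2 : (1 : A) ∈ I := htop ▸ trivial
        simpa [I] using h2))
      haveI := hP.isPrime
      have heP : e ∈ P := by
        refine hIP (LinearMap.mem_ker.2 ?_)
        rw [LinearMap.toSpanSingleton_apply, smul_eq_mul, mul_left_comm, mul_sub, mul_one, he.eq, sub_self, mul_zero]
      have hr : Module.rankAtStalk (R := A) B ⟨P, hP.isPrime⟩ ≠ 0 := fun h0 => by
        have : (⟨P, hP.isPrime⟩ : PrimeSpectrum A) ∈ (PrimeSpectrum.basicOpen e : Set (PrimeSpectrum A)) :=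
          heZ ▸ h0
        exact this heP
      haveI : Module.Free (Localization.AtPrime P) (LocalizedModule P.primeCompl B) :=
        Module.free_of_flat_of_isLocalRing
      haveI : Nontrivial (LocalizedModule P.primeCompl B) := by
        by_contra hn
        rw [not_nontrivial_iff_subsingleton] at hn
        exact hr Module.finrank_zero_of_subsingleton
      let bs := Module.Free.chooseBasis (Localization.AtPrime P) (LocalizedModule P.primeCompl B)
      obtain ⟨i⟩ := bs.index_nonempty
      have ha0 : ∀ b : B, a • b = 0 := fun b => by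
        rw [Algebra.smul_def, show algebraMap A B a = 0 from ha, zero_mul]
      have hav : algebraMap A (Localization.AtPrime P) a • bs i = 0 := by
        rw [algebraMap_smul]
        obtain ⟨⟨b, s⟩, hbs⟩ := IsLocalizedModule.mk'_surjective P.primeCompl
          (LocalizedModule.mkLinearMap P.primeCompl B) (bs i)
        rw [← hbs, Function.uncurry_apply_pair, ← IsLocalizedModule.mk'_smul, ha0, IsLocalizedModule.mk'_zero]
      have hz : algebraMap A (Localization.AtPrime P) a = 0 := by
        have := congrArg (fun v => bs.repr v i) hav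
        simp only [map_smul, Module.Basis.repr_self, Finsupp.smul_single, smul_eq_mul, mul_one,
          Finsupp.single_eq_same, map_zero, Finsupp.coe_zero, Pi.zero_apply] at this
        exact this
      obtain ⟨⟨s, hs⟩, hsa⟩ := (IsLocalization.map_eq_zero_iff P.primeCompl (Localization.AtPrime P) a).1 hz
      exact hs (hIP (LinearMap.mem_ker.2 (by
        rw [LinearMap.toSpanSingleton_apply, smul_eq_mul, ← mul_assoc, hsa, zero_mul])))
    exact Ideal.mem_span_singleton.2 ⟨a, by linear_combination h1⟩
  · show f e = 0
    have hsub : ∀ P : PrimeSpectrum A, e ∉ P.asIdeal → P ∉ Module.support A B := fun P hP =>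
      (Module.rankAtStalk_eq_zero_iff_notMem_support P).1 (show P ∈ (Module.rankAtStalk (R := A) B) ⁻¹' {0} by
        rw [heZ]; exact hP)
    have hone : e • (1 : B) = 0 := by
      by_contra hne
      obtain ⟨P, hP, hIP⟩ := Ideal.exists_le_maximal (LinearMap.ker (LinearMap.toSpanSingleton A B (e • (1 : B))))
        (fun htop => hne (by
          have h2 : (1 : A) ∈ LinearMap.ker (LinearMap.toSpanSingleton A B (e • (1 : B))) := htop ▸ trivial
          simpa using h2))
      haveI := hP.isPrime
      have heP : e ∉ P := fun heP => by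
        have hne' : ∀ s : A, s • e • (1 : B) = 0 → s ∈ P := fun s hs => hIP hs
        have : (1 - e) • e • (1 : B) = 0 := by
          rw [smul_smul, sub_mul, one_mul, he.eq, sub_self, zero_smul]
        exact hP.ne_top ((Ideal.eq_top_iff_one P).2 (by simpa using P.add_mem heP (hne' _ this)))
      have := hsub ⟨P, hP.isPrime⟩ heP
      rw [Module.notMem_support_iff'] at this
      obtain ⟨s, hs, hs0⟩ := this (e • (1 : B))
      exact hs (hIP (LinearMap.mem_ker.2 hs0))
    rwa [Algebra.smul_def, mul_one] at hone

theorem idem_unique {C : Type u} [CommRing C] {e e' : C} (he : IsIdempotentElem e) (he' : IsIdempotentElem e')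
    (h : Ideal.span {e} = Ideal.span {e'}) : e = e' := by
  obtain ⟨a, ha⟩ := Ideal.mem_span_singleton.1 (h ▸ Ideal.mem_span_singleton_self e : e ∈ Ideal.span {e'})
  obtain ⟨b, hb⟩ := Ideal.mem_span_singleton.1 (h.symm ▸ Ideal.mem_span_singleton_self e' : e' ∈ Ideal.span {e})
  have h1 : e' * e = e := by rw [ha, ← mul_assoc, he'.eq]
  have h2 : e * e' = e' := by rw [hb, ← mul_assoc, he.eq]
  rw [← h1, mul_comm, h2]

/-- flat base change commutes with kernels -/
theorem ker_baseChange_le (S : Type u) [CommRing S] [Algebra R S] [Module.Flat R S] {e : A}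
    (he : RingHom.ker f.toRingHom = Ideal.span {e}) :
    RingHom.ker (Algebra.TensorProduct.map (AlgHom.id S S) f).toRingHom ≤ Ideal.span {(1 : S) ⊗ₜ[R] e} := by
  intro z hz
  let g : A →ₗ[R] A := LinearMap.mulLeft R e
  have hex : Function.Exact g f.toLinearMap := fun a => by
    constructor
    · intro ha
      have ha' : a ∈ RingHom.ker f.toRingHom := ha
      rw [he] at ha'
      obtain ⟨c, hc⟩ := Ideal.mem_span_singleton.1 ha'
      exact ⟨c, hc.symm⟩
    · rintro ⟨c, rfl⟩
      have : f e = 0 := (he.symm ▸ Ideal.mem_span_singleton_self e : e ∈ RingHom.ker f.toRingHom)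
      show f (e * c) = 0
      rw [map_mul, this, zero_mul]
  have hhom : ∀ w, f.toLinearMap.lTensor S w = Algebra.TensorProduct.map (AlgHom.id S S) f w := by
    intro w
    induction w using TensorProduct.induction_on with
    | zero => simp
    | tmul s a => simp
    | add x y hx hy => simp only [map_add, hx, hy]
  obtain ⟨w, rfl⟩ := (Module.Flat.lTensor_exact S hex z).1 ((hhom z).trans hz)
  have hg : ∀ w, g.lTensor S w = ((1 : S) ⊗ₜ[R] e) * w := fun w => by
    induction w using TensorProduct.induction_on with
    | zero => simp
    | tmul s a => simp [g]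
    | add x y hx hy => simp only [map_add, hx, hy, mul_add]
  rw [hg]
  exact Ideal.mul_mem_right _ _ (Ideal.mem_span_singleton_self _)

/-- a quotient by an idempotent is finite etale -/
theorem etale_quot {e : A} (he : IsIdempotentElem e) : Algebra.Etale R (A ⧸ Ideal.span {e}) := by
  haveI : IsLocalization.Away (1 - e) (A ⧸ Ideal.span {e}) :=
    IsLocalization.away_of_isIdempotentElem he.one_sub (by rw [sub_sub_cancel, Ideal.Quotient.algebraMap_eq,
      Ideal.mk_ker]) Ideal.Quotient.mk_surjective
  haveI : Algebra.Etale A (A ⧸ Ideal.span {e}) := Algebra.Etale.of_isLocalizationAway (1 - e)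
  exact Algebra.Etale.comp R A (A ⧸ Ideal.span {e})

/-- an injective map of finite etale algebras of the same rank is bijective -/
theorem bijective_of_injective_of_rank (hf : Function.Injective f)
    (hr : ∀ P : PrimeSpectrum R, Module.rankAtStalk A P = Module.rankAtStalk B P) : Function.Bijective f := by
  refine ⟨hf, ?_⟩
  letI : Algebra A B := f.toRingHom.toAlgebra
  haveI : IsScalarTower R A B := IsScalarTower.of_algebraMap_eq fun r => (f.commutes r).symm
  haveI : Algebra.Etale A B := Algebra.Etale.of_restrictScalars R A B
  haveI : Module.Finite A B := Module.Finite.of_restrictScalars_finite R A B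
  haveI : FaithfulSMul A B := (faithfulSMul_iff_algebraMap_injective A B).2 hf
  haveI : Algebra.IsIntegral A B := Algebra.IsIntegral.of_finite A B
  haveI : Module.FaithfullyFlat A B := Module.FaithfullyFlat.of_comap_surjective
    (Algebra.IsIntegral.comap_surjective A B)
  by_contra hns
  haveI : Nontrivial (B ⧸ LinearMap.range f.toLinearMap) := by
    rw [Submodule.Quotient.nontrivial_iff, Ne, LinearMap.range_eq_top]; exact hns
  obtain ⟨p, hp⟩ := Module.nonempty_support_of_nontrivial (R := R) (M := B ⧸ LinearMap.range f.toLinearMap)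
  rw [Module.mem_support_iff_nontrivial_residueField_tensorProduct] at hp
  let κ := p.asIdeal.ResidueField
  letI : Algebra A (κ ⊗[R] A) := Algebra.TensorProduct.rightAlgebra
  have hinj : Function.Injective (f.toLinearMap.baseChange κ) := by
    let φ : κ ⊗[R] B →ₐ[R] (κ ⊗[R] A) ⊗[A] B :=
      Algebra.TensorProduct.lift
        ((Algebra.TensorProduct.includeLeft (R := A) (S := R) (A := κ ⊗[R] A) (B := B)).comp
          (Algebra.TensorProduct.includeLeft (R := R) (S := R) (A := κ) (B := A)))
        ((Algebra.TensorProduct.includeRight : B →ₐ[A] (κ ⊗[R] A) ⊗[A] B).restrictScalars R)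
        fun _ _ => Commute.all _ _
    have hφ : ∀ z, φ (f.toLinearMap.baseChange κ z) = z ⊗ₜ[A] (1 : B) := by
      intro z
      induction z using TensorProduct.induction_on with
      | zero => simp
      | add x y hx hy => simp only [map_add, hx, hy, TensorProduct.add_tmul]
      | tmul s a =>
        simp only [LinearMap.baseChange_tmul, AlgHom.toLinearMap_apply, φ, Algebra.TensorProduct.lift_tmul,
          AlgHom.coe_comp, AlgHom.coe_restrictScalars', Function.comp_apply, AlgHom.comp_apply,
          Algebra.TensorProduct.includeLeft_apply, Algebra.TensorProduct.includeRight_apply,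
          Algebra.TensorProduct.tmul_mul_tmul, mul_one, one_mul]
        rw [show f a = a • (1 : B) by rw [Algebra.smul_def, mul_one]; rfl, ← TensorProduct.smul_tmul,
          Algebra.smul_def]
        congr 1
        show ((1 : κ) ⊗ₜ[R] a) * (s ⊗ₜ[R] (1 : A)) = s ⊗ₜ a
        simp
    intro z z' hz
    haveI : IsScalarTower R A (κ ⊗[R] A) := IsScalarTower.of_algebraMap_eq fun r => by
      show algebraMap R (κ ⊗[R] A) r = (1 : κ) ⊗ₜ algebraMap R A r
      rw [← Algebra.TensorProduct.includeRight_apply, AlgHom.commutes]
    exact Module.FaithfullyFlat.tensorProduct_mk_injective (B := B) (M := κ ⊗[R] A) (by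
      show (TensorProduct.mk A B (κ ⊗[R] A) 1) z = (TensorProduct.mk A B (κ ⊗[R] A) 1) z'
      apply (TensorProduct.comm A B (κ ⊗[R] A)).injective
      simp only [TensorProduct.mk_apply, TensorProduct.comm_tmul]
      rw [← hφ, ← hφ, hz])
  haveI : Module.FinitePresentation R A := FEt83.modFP A
  haveI : Module.FinitePresentation R B := FEt83.modFP B
  have hdim : Module.finrank κ (κ ⊗[R] A) = Module.finrank κ (κ ⊗[R] B) := by
    have h1 := hr p
    rwa [Module.rankAtStalk_eq, Module.rankAtStalk_eq] at h1
  have hsurj : Function.Surjective (f.toLinearMap.baseChange κ) :=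
    (LinearMap.injective_iff_surjective_of_finrank_eq_finrank hdim).1 hinj
  haveI : Subsingleton (κ ⊗[R] (B ⧸ LinearMap.range f.toLinearMap)) := by
    refine ⟨fun x y => ?_⟩
    suffices ∀ x : κ ⊗[R] (B ⧸ LinearMap.range f.toLinearMap), x = 0 by rw [this x, this y]
    intro x
    obtain ⟨w, rfl⟩ := LinearMap.lTensor_surjective κ (Submodule.mkQ_surjective (LinearMap.range f.toLinearMap)) x
    obtain ⟨z, rfl⟩ := hsurj w
    induction z using TensorProduct.induction_on with
    | zero => simp
    | add x y hx hy => simp only [map_add, hx, hy, add_zero]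
    | tmul s a =>
      rw [LinearMap.baseChange_tmul, LinearMap.lTensor_tmul, Submodule.mkQ_apply,
        (Submodule.Quotient.mk_eq_zero _).2 (LinearMap.mem_range_self _ a), TensorProduct.tmul_zero]
  exact false_of_nontrivial_of_subsingleton (κ ⊗[R] (B ⧸ LinearMap.range f.toLinearMap))

end Groth.Agent.SF97
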