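import Groth.Agent.SF97.EtAlg
import Groth.Prelude.Def_SchFin2

/-! The category of etale covers of a finite ringed poset has finite limits and colimits, pointwise. -/

set_option autoImplicit false
universe w u

noncomputable section

open TensorProduct CategoryTheory Limits CommAlgCat SchFin

namespace Groth.Agent.SF97

variable {X : RSpace.{u}}

variable (X) in
/-- evaluation at a point -/
def evF (p : X.pt) : FEt X ⥤ FiniteEtale.{u} (X.ring p) where
  obj A :=
    haveI := (A.property.2 p).1
    haveI := (A.property.2 p).2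
    FiniteEtale.of (X.ring p) (A.obj.carrier p)
  map {A B} f := ObjectProperty.homMk (CommAlgCat.ofHom (f.hom.app p))

theorem evF_ext {A B : FEt X} {f g : A ⟶ B} (h : ∀ p, (evF X p).map f = (evF X p).map g) : f = g :=
  ObjectProperty.hom_ext _ (Alg.hom_ext _ _ fun p => AlgHom.ext fun a =>
    congrArg (fun m : (evF X p).obj A ⟶ (evF X p).obj B => m.hom.hom a) (h p))

/-- base change along a restriction -/
def bcR {p q : X.pt} (h : p ≤ q) : FiniteEtale.{u} (X.ring p) ⥤ FiniteEtale.{u} (X.ring q) :=
  letI := (X.res h).toAlgebra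
  FiniteEtale.baseChange (X.ring p) (X.ring q)

instance {p q : X.pt} (h : p ≤ q) : PreservesFiniteLimits (bcR (X := X) h) :=
  letI := (X.res h).toAlgebra
  inferInstanceAs (PreservesFiniteLimits (FiniteEtale.baseChange (X.ring p) (X.ring q)))

instance {p q : X.pt} (h : p ≤ q) : PreservesFiniteColimits (bcR (X := X) h) :=
  letI := (X.res h).toAlgebra
  inferInstanceAs (PreservesFiniteColimits (FiniteEtale.baseChange (X.ring p) (X.ring q)))

/-- a ring map over a restriction -/
def IsSemi {p q : X.pt} (h : p ≤ q) (A : FiniteEtale.{u} (X.ring p)) (B : FiniteEtale.{u} (X.ring q))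
    (φ : A.obj →+* B.obj) : Prop :=
  ∀ r, φ (algebraMap (X.ring p) A.obj r) = algebraMap (X.ring q) B.obj (X.res h r)

def ofSemi {p q : X.pt} (h : p ≤ q) (A : FiniteEtale.{u} (X.ring p)) (B : FiniteEtale.{u} (X.ring q))
    (φ : A.obj →+* B.obj) (hφ : IsSemi h A B φ) : (bcR h).obj A ⟶ B :=
  letI := (X.res h).toAlgebra
  ObjectProperty.homMk (CommAlgCat.ofHom (semiLift φ hφ))

def toSemi {p q : X.pt} (h : p ≤ q) {A : FiniteEtale.{u} (X.ring p)} {B : FiniteEtale.{u} (X.ring q)}
    (m : (bcR h).obj A ⟶ B) : A.obj →+* B.obj :=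
  letI := (X.res h).toAlgebra
  m.hom.hom.toRingHom.comp (Algebra.TensorProduct.includeRight (R := X.ring p) (A := X.ring q)).toRingHom

theorem isSemi_toSemi {p q : X.pt} (h : p ≤ q) {A : FiniteEtale.{u} (X.ring p)} {B : FiniteEtale.{u} (X.ring q)}
    (m : (bcR h).obj A ⟶ B) : IsSemi h A B (toSemi h m) := fun r => by
  letI := (X.res h).toAlgebra
  show m.hom.hom ((Algebra.TensorProduct.includeRight : A.obj →ₐ[X.ring p] X.ring q ⊗[X.ring p] A.obj)
    (algebraMap _ _ r)) = _
  rw [AlgHom.commutes, IsScalarTower.algebraMap_apply (X.ring p) (X.ring q) (X.ring q ⊗[X.ring p] A.obj)]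
  exact AlgHom.commutes _ _

theorem toSemi_ofSemi {p q : X.pt} (h : p ≤ q) (A : FiniteEtale.{u} (X.ring p)) (B : FiniteEtale.{u} (X.ring q))
    (φ : A.obj →+* B.obj) (hφ : IsSemi h A B φ) : toSemi h (ofSemi h A B φ hφ) = φ := RingHom.ext fun a => by
  letI := (X.res h).toAlgebra
  show semiLift φ hφ (1 ⊗ₜ a) = φ a
  rw [semiLift_tmul, map_one, one_mul]

theorem toSemi_injective {p q : X.pt} (h : p ≤ q) {A : FiniteEtale.{u} (X.ring p)}
    {B : FiniteEtale.{u} (X.ring q)} : Function.Injective (toSemi (X := X) h (A := A) (B := B)) := fun m m' e => by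
  letI := (X.res h).toAlgebra
  refine ObjectProperty.hom_ext _ (CommAlgCat.hom_ext (AlgHom.ext fun (t : X.ring q ⊗[X.ring p] A.obj) => ?_))
  induction t using TensorProduct.induction_on with
  | zero => exact (map_zero _).trans (map_zero _).symm
  | add x y hx hy => exact (map_add _ x y).trans ((congrArg₂ (· + ·) hx hy).trans (map_add _ x y).symm)
  | tmul c a =>
    rw [show c ⊗ₜ[X.ring p] a = c • ((1 : X.ring q) ⊗ₜ[X.ring p] a) by simp [TensorProduct.smul_tmul']]
    refine (map_smul _ c _).trans ((congrArg (c • ·) ?_).trans (map_smul _ c _).symm)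
    exact RingHom.congr_fun e a

theorem toSemi_map_comp {p q : X.pt} (h : p ≤ q) {A A' : FiniteEtale.{u} (X.ring p)}
    {B : FiniteEtale.{u} (X.ring q)} (f : A' ⟶ A) (m : (bcR h).obj A ⟶ B) :
    toSemi h ((bcR h).map f ≫ m) = (toSemi h m).comp f.hom.hom.toRingHom := RingHom.ext fun a => by
  rfl

theorem toSemi_comp {p q : X.pt} (h : p ≤ q) {A : FiniteEtale.{u} (X.ring p)}
    {B B' : FiniteEtale.{u} (X.ring q)} (m : (bcR h).obj A ⟶ B) (k : B ⟶ B') :
    toSemi h (m ≫ k) = k.hom.hom.toRingHom.comp (toSemi h m) := RingHom.ext fun a => by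
  rfl

/-- the comparison map of an etale cover -/
def θ {p q : X.pt} (h : p ≤ q) : evF X p ⋙ bcR h ⟶ evF X q where
  app A := ofSemi h _ _ (A.obj.res h) (A.obj.res_algebraMap h)
  naturality {A B} f := toSemi_injective h (by
    erw [toSemi_map_comp, toSemi_comp, toSemi_ofSemi, toSemi_ofSemi]
    exact RingHom.ext fun a => f.hom.compat h a)

theorem isIso_of_bijective {R : Type u} [CommRing R] {A B : FiniteEtale.{u} R} (m : A ⟶ B)
    (hm : Function.Bijective m.hom.hom) : IsIso m :=
  ⟨⟨(FiniteEtale.isoMk (AlgEquiv.ofBijective m.hom.hom hm)).inv,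
    ObjectProperty.hom_ext _ (CommAlgCat.hom_ext (AlgHom.ext fun a => (AlgEquiv.ofBijective m.hom.hom hm).left_inv a)),
    ObjectProperty.hom_ext _ (CommAlgCat.hom_ext (AlgHom.ext fun a =>
      (AlgEquiv.ofBijective m.hom.hom hm).right_inv a))⟩⟩

theorem bijective_of_isIso {R : Type u} [CommRing R] {A B : FiniteEtale.{u} R} (m : A ⟶ B) [IsIso m] :
    Function.Bijective m.hom.hom := by
  refine Function.bijective_iff_has_inverse.2 ⟨(inv m).hom.hom, fun a => ?_, fun a => ?_⟩
  · exact congrArg (fun k : A ⟶ A => k.hom.hom a) (IsIso.hom_inv_id m)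
  · exact congrArg (fun k : B ⟶ B => k.hom.hom a) (IsIso.inv_hom_id m)

instance {p q : X.pt} (h : p ≤ q) : IsIso (θ (X := X) h) := by
  refine @NatIso.isIso_of_isIso_app _ _ _ _ _ _ _ fun A => isIso_of_bijective _ ?_
  letI := (X.res h).toAlgebra
  letI : Module (X.ring p) (A.obj.carrier q) := Module.compHom _ (X.res h)
  haveI : IsScalarTower (X.ring p) (X.ring q) (A.obj.carrier q) := IsScalarTower.of_algebraMap_smul fun _ _ => rfl
  let L : A.obj.carrier p →ₗ[X.ring p] A.obj.carrier q :=
    { toFun := A.obj.toMod.res h, map_add' := map_add (A.obj.toMod.res h),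
      map_smul' := LinearMap.map_smulₛₗ (A.obj.toMod.res h) }
  have hL : IsBaseChange (X.ring q) L := A.property.1 p q h
  have e : ∀ t, semiLift (S := X.ring q) (A.obj.res h) (A.obj.res_algebraMap h) t = hL.equiv t := by
    intro t
    induction t using TensorProduct.induction_on with
    | zero => simp
    | add x y hx hy => simp only [map_add, hx, hy]
    | tmul s a => rw [semiLift_tmul, IsBaseChange.equiv_tmul, Algebra.smul_def]; rfl
  show Function.Bijective (semiLift (S := X.ring q) (A.obj.res h) (A.obj.res_algebraMap h))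
  rw [show ⇑(semiLift (S := X.ring q) (A.obj.res h) (A.obj.res_algebraMap h)) = hL.equiv from funext e]
  exact hL.equiv.bijective

/-- pointwise data for an etale cover -/
structure CovData (X : RSpace.{u}) : Type (u + 1) where
  L : ∀ p : X.pt, FiniteEtale.{u} (X.ring p)
  res : ∀ {p q : X.pt}, p ≤ q → ((L p).obj →+* (L q).obj)
  semi : ∀ {p q : X.pt} (h : p ≤ q), IsSemi h (L p) (L q) (res h)
  self : ∀ (p : X.pt) (b : (L p).obj), res (le_refl p) b = b
  comp : ∀ {p q s : X.pt} (h : p ≤ q) (h' : q ≤ s) (b : (L p).obj), res h' (res h b) = res (h.trans h') b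
  iso : ∀ {p q : X.pt} (h : p ≤ q), IsIso (ofSemi h (L p) (L q) (res h) (semi h))

def CovData.alg (d : CovData X) : Alg X where
  carrier p := (d.L p).obj
  res h := d.res h
  res_algebraMap h := d.semi h
  res_self := d.self
  res_comp h h' := d.comp h h'

theorem CovData.isEtCover (d : CovData X) : d.alg.IsEtCover := by
  refine ⟨fun p q h => ?_, fun p => ⟨(d.L p).property.1, (d.L p).property.2⟩⟩
  haveI := d.iso h
  have hb := bijective_of_isIso (ofSemi h (d.L p) (d.L q) (d.res h) (d.semi h))
  letI := (X.res h).toAlgebra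
  letI : Module (X.ring p) (d.alg.toMod.carrier q) := Module.compHom _ (X.res h)
  haveI : IsScalarTower (X.ring p) (X.ring q) (d.alg.toMod.carrier q) :=
    IsScalarTower.of_algebraMap_smul fun _ _ => rfl
  refine IsBaseChange.of_equiv (R := X.ring p) (S := X.ring q) (LinearEquiv.ofBijective
    (semiLift (S := X.ring q) (d.res h) (d.semi h)).toLinearMap hb) fun a => ?_
  show semiLift (S := X.ring q) (d.res h) (d.semi h) (1 ⊗ₜ a) = d.res h a
  rw [semiLift_tmul, map_one, one_mul]

def CovData.obj (d : CovData X) : FEt X := ⟨d.alg, d.isEtCover⟩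

def homOfApp {A B : FEt X} (m : ∀ p, (evF X p).obj A ⟶ (evF X p).obj B)
    (hc : ∀ {p q : X.pt} (h : p ≤ q) a, B.obj.res h ((m p).hom.hom a) = (m q).hom.hom (A.obj.res h a)) : A ⟶ B :=
  ObjectProperty.homMk ⟨fun p => (m p).hom.hom, hc⟩

variable {J : Type w} [SmallCategory J] [FinCategory J]

section colim

variable (D : J ⥤ FEt X)

abbrev colC (p : X.pt) : Cocone (D ⋙ evF X p) := colimit.cocone (D ⋙ evF X p)

def colC' {p q : X.pt} (h : p ≤ q) : Cocone ((D ⋙ evF X p) ⋙ bcR h) :=
  (Cocone.precompose (Functor.whiskerLeft D (θ h))).obj (colC D q)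

def colHm {p : X.pt} {q : X.pt} (h : p ≤ q) : IsColimit ((bcR h).mapCocone (colC D p)) :=
  isColimitOfPreserves (bcR h) (colimit.isColimit _)

def colψ {p q : X.pt} (h : p ≤ q) : (bcR h).obj (colC D p).pt ⟶ (colC D q).pt :=
  (colHm D h).desc (colC' D h)

theorem colψ_iso {p q : X.pt} (h : p ≤ q) : IsIso (colψ D h) := by
  have hc : IsColimit (colC' D h) := by
    haveI : IsIso (Functor.whiskerLeft D (θ (X := X) h)) := inferInstance
    exact (IsColimit.precomposeHomEquiv (asIso (Functor.whiskerLeft D (θ h))) (colC D q)).symm (colimit.isColimit _)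
  exact ⟨⟨((colHm D h).coconePointUniqueUpToIso hc).inv,
    ((colHm D h).coconePointUniqueUpToIso hc).hom_inv_id, ((colHm D h).coconePointUniqueUpToIso hc).inv_hom_id⟩⟩

theorem col_res_ι {p q : X.pt} (h : p ≤ q) (j : J) :
    (toSemi h (colψ D h)).comp ((colC D p).ι.app j).hom.hom.toRingHom =
      ((colC D q).ι.app j).hom.hom.toRingHom.comp ((D.obj j).obj.res h) := by
  rw [← toSemi_map_comp]
  exact (congrArg (toSemi h) ((colHm D h).fac (colC' D h) j)).trans
    ((toSemi_comp h _ _).trans (congrArg _ (toSemi_ofSemi _ _ _ _ _)))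

theorem col_ext {p q : X.pt} (h : p ≤ q) {B : FiniteEtale.{u} (X.ring q)} (φ φ' : (colC D p).pt.obj →+* B.obj)
    (hφ : IsSemi h _ B φ) (hφ' : IsSemi h _ B φ')
    (e : ∀ j a, φ (((colC D p).ι.app j).hom.hom a) = φ' (((colC D p).ι.app j).hom.hom a)) : φ = φ' := by
  rw [← toSemi_ofSemi h _ B φ hφ, ← toSemi_ofSemi h _ B φ' hφ']
  refine congrArg _ ((colHm D h).hom_ext fun j => toSemi_injective h ?_)
  erw [toSemi_map_comp, toSemi_map_comp, toSemi_ofSemi, toSemi_ofSemi]
  exact RingHom.ext fun a => e j a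

def colData : CovData X where
  L p := (colC D p).pt
  res h := toSemi h (colψ D h)
  semi h := isSemi_toSemi h _
  self p b := by
    refine RingHom.congr_fun (col_ext D (le_refl p) (toSemi (le_refl p) (colψ D (le_refl p))) (RingHom.id _)
      (isSemi_toSemi _ _) (fun r => by rw [X.res_self]; rfl) fun j a => ?_) b
    refine (RingHom.congr_fun (col_res_ι D (le_refl p) j) a).trans ?_
    exact congrArg ((colC D p).ι.app j).hom.hom ((D.obj j).obj.res_self p a)
  comp {p q s} h h' b := by
    refine RingHom.congr_fun (col_ext D (h.trans h') ((toSemi h' (colψ D h')).comp (toSemi h (colψ D h)))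
      (toSemi (h.trans h') (colψ D (h.trans h'))) (fun r => ?_) (isSemi_toSemi _ _) fun j a => ?_) b
    · rw [RingHom.comp_apply, isSemi_toSemi h, isSemi_toSemi h', X.res_comp]
    · refine Eq.trans ?_ (RingHom.congr_fun (col_res_ι D (h.trans h') j) a).symm
      refine (congrArg (toSemi h' (colψ D h')) (RingHom.congr_fun (col_res_ι D h j) a)).trans ?_
      refine (RingHom.congr_fun (col_res_ι D h' j) _).trans ?_
      exact congrArg ((colC D s).ι.app j).hom.hom ((D.obj j).obj.res_comp h h' a)
  iso h := by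
    have e : ofSemi h _ _ (toSemi h (colψ D h)) (isSemi_toSemi h _) = colψ D h :=
      toSemi_injective h (toSemi_ofSemi _ _ _ _ _)
    rw [e]
    exact colψ_iso D h

def colCocone : Cocone D where
  pt := (colData D).obj
  ι :=
    { app := fun j => homOfApp (fun p => (colC D p).ι.app j) fun h a => RingHom.congr_fun (col_res_ι D h j) a
      naturality := fun i j f => evF_ext fun p => ((colC D p).ι.naturality f) }

def colIsColimit : IsColimit (colCocone D) where
  desc s := homOfApp (fun p => (colimit.isColimit (D ⋙ evF X p)).desc ((evF X p).mapCocone s))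
    fun {p q} h a => by
      refine RingHom.congr_fun (col_ext D h (B := (evF X q).obj s.pt)
        ((s.pt.obj.res h).comp
          ((colimit.isColimit (D ⋙ evF X p)).desc ((evF X p).mapCocone s)).hom.hom.toRingHom)
        (((colimit.isColimit (D ⋙ evF X q)).desc ((evF X q).mapCocone s)).hom.hom.toRingHom.comp
          (toSemi h (colψ D h))) (fun r => ?_) (fun r => ?_) fun j a => ?_) a
      · show s.pt.obj.res h (_ : s.pt.obj.carrier p) = _
        exact (congrArg (s.pt.obj.res h) (AlgHom.commutes _ r)).trans (s.pt.obj.res_algebraMap h r)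
      · rw [RingHom.comp_apply, isSemi_toSemi h]
        exact AlgHom.commutes _ _
      · have h1 := congrArg (fun m : (evF X p).obj (D.obj j) ⟶ (evF X p).obj s.pt => m.hom.hom a)
          ((colimit.isColimit (D ⋙ evF X p)).fac ((evF X p).mapCocone s) j)
        have h2 := congrArg (fun m : (evF X q).obj (D.obj j) ⟶ (evF X q).obj s.pt => m.hom.hom ((D.obj j).obj.res h a))
          ((colimit.isColimit (D ⋙ evF X q)).fac ((evF X q).mapCocone s) j)
        refine (congrArg (s.pt.obj.res h) h1).trans (((s.ι.app j).hom.compat h a).trans (h2.symm.trans ?_))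
        exact congrArg _ (RingHom.congr_fun (col_res_ι D h j) a).symm
  fac s j := evF_ext fun p => (colimit.isColimit (D ⋙ evF X p)).fac ((evF X p).mapCocone s) j
  uniq s m hm := evF_ext fun p => (colimit.isColimit (D ⋙ evF X p)).uniq ((evF X p).mapCocone s) ((evF X p).map m)
    fun j => congrArg (evF X p).map (hm j)

def colPreserves (p : X.pt) : IsColimit ((evF X p).mapCocone (colCocone D)) :=
  IsColimit.ofIsoColimit (colimit.isColimit (D ⋙ evF X p)) (Cocone.ext (Iso.refl _))

end colim

instance : HasColimitsOfShape J (FEt X) := ⟨fun D => ⟨⟨⟨colCocone D, colIsColimit D⟩⟩⟩⟩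

instance (p : X.pt) : PreservesColimitsOfShape J (evF X p) :=
  ⟨fun {D} => preservesColimit_of_preserves_colimit_cocone (colIsColimit D) (colPreserves D p)⟩

section lim

variable (D : J ⥤ FEt X)

abbrev limC (p : X.pt) : Cone (D ⋙ evF X p) := limit.cone (D ⋙ evF X p)

def limC' {p q : X.pt} (h : p ≤ q) : Cone (D ⋙ evF X q) :=
  (Cone.postcompose (Functor.whiskerLeft D (θ h))).obj ((bcR h).mapCone (limC D p))

def limψ {p q : X.pt} (h : p ≤ q) : (bcR h).obj (limC D p).pt ⟶ (limC D q).pt :=
  (limit.isLimit _).lift (limC' D h)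

theorem limψ_iso {p q : X.pt} (h : p ≤ q) : IsIso (limψ D h) := by
  have hc : IsLimit (limC' D h) := by
    haveI : IsIso (Functor.whiskerLeft D (θ (X := X) h)) := inferInstance
    exact (IsLimit.postcomposeHomEquiv (asIso (Functor.whiskerLeft D (θ h))) ((bcR h).mapCone (limC D p))).symm
      (isLimitOfPreserves (bcR h) (limit.isLimit _))
  exact ⟨⟨(hc.conePointUniqueUpToIso (limit.isLimit _)).inv,
    (hc.conePointUniqueUpToIso (limit.isLimit _)).hom_inv_id, (hc.conePointUniqueUpToIso (limit.isLimit _)).inv_hom_id⟩⟩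

theorem lim_res_π {p q : X.pt} (h : p ≤ q) (j : J) :
    ((limC D q).π.app j).hom.hom.toRingHom.comp (toSemi h (limψ D h)) =
      ((D.obj j).obj.res h).comp ((limC D p).π.app j).hom.hom.toRingHom := by
  rw [← toSemi_comp]
  exact (congrArg (toSemi h) ((limit.isLimit _).fac (limC' D h) j)).trans <| (toSemi_map_comp h _ _).trans (congrArg (fun r => RingHom.comp r _) (toSemi_ofSemi _ _ _ _ _))

theorem lim_ext {p q : X.pt} (h : p ≤ q) {A : FiniteEtale.{u} (X.ring p)} (φ φ' : A.obj →+* (limC D q).pt.obj)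
    (hφ : IsSemi h A _ φ) (hφ' : IsSemi h A _ φ')
    (e : ∀ j a, ((limC D q).π.app j).hom.hom (φ a) = ((limC D q).π.app j).hom.hom (φ' a)) : φ = φ' := by
  rw [← toSemi_ofSemi h A _ φ hφ, ← toSemi_ofSemi h A _ φ' hφ']
  refine congrArg _ ((limit.isLimit _).hom_ext fun j => toSemi_injective h ?_)
  erw [toSemi_comp, toSemi_comp, toSemi_ofSemi, toSemi_ofSemi]
  exact RingHom.ext fun a => e j a

def limData : CovData X where
  L p := (limC D p).pt
  res h := toSemi h (limψ D h)
  semi h := isSemi_toSemi h _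
  self p b := by
    refine RingHom.congr_fun (lim_ext D (le_refl p) (toSemi (le_refl p) (limψ D (le_refl p))) (RingHom.id _)
      (isSemi_toSemi _ _) (fun r => by rw [X.res_self]; rfl) fun j a => ?_) b
    exact (RingHom.congr_fun (lim_res_π D (le_refl p) j) a).trans ((D.obj j).obj.res_self p _)
  comp {p q s} h h' b := by
    refine RingHom.congr_fun (lim_ext D (h.trans h') ((toSemi h' (limψ D h')).comp (toSemi h (limψ D h)))
      (toSemi (h.trans h') (limψ D (h.trans h'))) (fun r => ?_) (isSemi_toSemi _ _) fun j a => ?_) b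
    · rw [RingHom.comp_apply, isSemi_toSemi h, isSemi_toSemi h', X.res_comp]
    · refine Eq.trans ?_ (RingHom.congr_fun (lim_res_π D (h.trans h') j) a).symm
      refine (RingHom.congr_fun (lim_res_π D h' j) _).trans ?_
      refine (congrArg ((D.obj j).obj.res h') (RingHom.congr_fun (lim_res_π D h j) a)).trans ?_
      exact (D.obj j).obj.res_comp h h' _
  iso h := by
    have e : ofSemi h _ _ (toSemi h (limψ D h)) (isSemi_toSemi h _) = limψ D h :=
      toSemi_injective h (toSemi_ofSemi _ _ _ _ _)
    rw [e]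
    exact limψ_iso D h

def limCone' : Cone D where
  pt := (limData D).obj
  π :=
    { app := fun j => homOfApp (fun p => (limC D p).π.app j) fun h a => (RingHom.congr_fun (lim_res_π D h j) a).symm
      naturality := fun i j f => evF_ext fun p => ((limC D p).π.naturality f) }

def limIsLimit : IsLimit (limCone' D) where
  lift s := homOfApp (fun p => (limit.isLimit (D ⋙ evF X p)).lift ((evF X p).mapCone s))
    fun {p q} h a => by
      refine RingHom.congr_fun (lim_ext D h (A := (evF X p).obj s.pt)
        ((toSemi h (limψ D h)).comp ((limit.isLimit (D ⋙ evF X p)).lift ((evF X p).mapCone s)).hom.hom.toRingHom)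
        (((limit.isLimit (D ⋙ evF X q)).lift ((evF X q).mapCone s)).hom.hom.toRingHom.comp (s.pt.obj.res h))
        (fun r => ?_) (fun r => ?_) fun j a => ?_) a
      · exact (congrArg (toSemi h (limψ D h)) (AlgHom.commutes _ r)).trans (isSemi_toSemi h _ r)
      · exact (congrArg _ (s.pt.obj.res_algebraMap h r)).trans (AlgHom.commutes _ _)
      · have h1 := congrArg (fun m : (evF X p).obj s.pt ⟶ (evF X p).obj (D.obj j) => m.hom.hom a)
          ((limit.isLimit (D ⋙ evF X p)).fac ((evF X p).mapCone s) j)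
        have h2 := congrArg (fun m : (evF X q).obj s.pt ⟶ (evF X q).obj (D.obj j) => m.hom.hom (s.pt.obj.res h a))
          ((limit.isLimit (D ⋙ evF X q)).fac ((evF X q).mapCone s) j)
        refine (RingHom.congr_fun (lim_res_π D h j) _).trans ((congrArg ((D.obj j).obj.res h) h1).trans ?_)
        exact ((s.π.app j).hom.compat h a).trans h2.symm
  fac s j := evF_ext fun p => (limit.isLimit (D ⋙ evF X p)).fac ((evF X p).mapCone s) j
  uniq s m hm := evF_ext fun p => (limit.isLimit (D ⋙ evF X p)).uniq ((evF X p).mapCone s) ((evF X p).map m)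
    fun j => congrArg (evF X p).map (hm j)

def limPreserves (p : X.pt) : IsLimit ((evF X p).mapCone (limCone' D)) :=
  IsLimit.ofIsoLimit (limit.isLimit (D ⋙ evF X p)) (Cone.ext (Iso.refl _))

end lim

instance : HasLimitsOfShape J (FEt X) := ⟨fun D => ⟨⟨⟨limCone' D, limIsLimit D⟩⟩⟩⟩

instance (p : X.pt) : PreservesLimitsOfShape J (evF X p) :=
  ⟨fun {D} => preservesLimit_of_preserves_limit_cone (limIsLimit D) (limPreserves D p)⟩

instance : HasFiniteLimits (FEt X) := ⟨fun _ _ _ => inferInstance⟩

instance : HasFiniteColimits (FEt X) := ⟨fun _ _ _ => inferInstance⟩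

instance (p : X.pt) : PreservesFiniteLimits (evF X p) := ⟨fun _ _ _ => inferInstance⟩

instance (p : X.pt) : PreservesFiniteColimits (evF X p) := ⟨fun _ _ _ => inferInstance⟩

end Groth.Agent.SF97
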