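import Groth.Agent.SF97.EtCov
import Groth.Agent.Ind91.Prod

/-! Kernels of morphisms of etale covers, complements, ranks. -/

set_option autoImplicit false
universe u

noncomputable section

open TensorProduct CategoryTheory Limits CommAlgCat SchFin

namespace Groth.Agent.SF97

variable {X : RSpace.{u}}

theorem flat_res' (hX : X.IsSchematic) {p q : X.pt} (h : p ≤ q) : (X.res h).Flat := hX.1.2 p q h

theorem injective_of_mono {A B : FEt X} (f : A ⟶ B) [Mono f] (p : X.pt) :
    Function.Injective (f.hom.app p) := by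
  haveI : Module.Finite (X.ring p) (A.obj.carrier p) := (A.property.2 p).1
  haveI : Algebra.Etale (X.ring p) (A.obj.carrier p) := (A.property.2 p).2
  haveI : Module.Finite (X.ring p) (B.obj.carrier p) := (B.property.2 p).1
  haveI : Algebra.Etale (X.ring p) (B.obj.carrier p) := (B.property.2 p).2
  let F := f.hom.app p
  let E := AlgHom.equalizer (F.comp (AlgHom.fst _ _ _)) (F.comp (AlgHom.snd _ _ _))
  haveI : Algebra.Etale (X.ring p) (A.obj.carrier p × A.obj.carrier p) := Ind91.etale_prod _ _ _
  haveI : Module.Finite (X.ring p) E := FEt83.finite_equalizer _ _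
  haveI : Algebra.Etale (X.ring p) E := FEt83.etale_equalizer _ _
  intro a a' h
  let u : FiniteEtale.of (X.ring p) E ⟶ (evF X p).obj A :=
    ObjectProperty.homMk (CommAlgCat.ofHom ((AlgHom.fst _ _ _).comp E.val))
  let v : FiniteEtale.of (X.ring p) E ⟶ (evF X p).obj A :=
    ObjectProperty.homMk (CommAlgCat.ofHom ((AlgHom.snd _ _ _).comp E.val))
  have huv : u = v := (cancel_mono ((evF X p).map f)).1
    (ObjectProperty.hom_ext _ (CommAlgCat.hom_ext (AlgHom.ext fun (z : E) => z.2)))
  exact congrArg (fun m : FiniteEtale.of (X.ring p) E ⟶ (evF X p).obj A => m.hom.hom (⟨(a, a'), h⟩ : E)) huv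

/-- a compatible family of idempotents -/
structure Idem (A : FEt X) : Type u where
  e : ∀ p, A.obj.carrier p
  idem : ∀ p, IsIdempotentElem (e p)
  nat : ∀ {p q : X.pt} (h : p ≤ q), A.obj.res h (e p) = e q

def Idem.compl {A : FEt X} (t : Idem A) : Idem A where
  e p := 1 - t.e p
  idem p := (t.idem p).one_sub
  nat h := by rw [map_sub, map_one, t.nat]

theorem quot_res_le {A : FEt X} (t : Idem A) {p q : X.pt} (h : p ≤ q) :
    Ideal.span {t.e p} ≤ Ideal.comap (A.obj.res h) (Ideal.span {t.e q}) :=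
  (Ideal.span_singleton_le_iff_mem _).2 (Ideal.mem_comap.2 ((t.nat h).symm ▸ Ideal.mem_span_singleton_self _))

theorem quot_semi {A : FEt X} (t : Idem A) {p q : X.pt} (h : p ≤ q) (r : X.ring p) :
    Ideal.quotientMap (Ideal.span {t.e q}) (A.obj.res h) (quot_res_le t h)
      (algebraMap (X.ring p) (A.obj.carrier p ⧸ Ideal.span {t.e p}) r) =
      algebraMap (X.ring q) (A.obj.carrier q ⧸ Ideal.span {t.e q}) (X.res h r) := by
  show Ideal.quotientMap _ (A.obj.res h) (quot_res_le t h) (Ideal.Quotient.mk _ (algebraMap _ _ r)) = _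
  rw [Ideal.quotientMap_mk, A.obj.res_algebraMap]
  rfl

theorem apply_eq_zero_of_ker {C C' : Type u} [CommRing C] [CommRing C'] {φ : C →+* C'} {e : C}
    (h : RingHom.ker φ = Ideal.span {e}) : φ e = 0 :=
  RingHom.mem_ker.1 (h ▸ Ideal.mem_span_singleton_self e)

/-- the quotient by a compatible family of idempotents -/
def cutData {A : FEt X} (t : Idem A) : CovData X where
  L p :=
    haveI : Module.Finite (X.ring p) (A.obj.carrier p) := (A.property.2 p).1
    haveI : Algebra.Etale (X.ring p) (A.obj.carrier p) := (A.property.2 p).2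
    haveI := etale_quot (R := X.ring p) (t.idem p)
    FiniteEtale.of (X.ring p) (A.obj.carrier p ⧸ Ideal.span {t.e p})
  res h := Ideal.quotientMap _ (A.obj.res h) (quot_res_le t h)
  semi h r := quot_semi t h r
  self p b := by
    obtain ⟨b, rfl⟩ := Ideal.Quotient.mk_surjective (I := Ideal.span {t.e p}) b
    rw [Ideal.quotientMap_mk, A.obj.res_self]
  comp {p q s} h h' b := by
    obtain ⟨b, rfl⟩ := Ideal.Quotient.mk_surjective (I := Ideal.span {t.e p}) b
    rw [Ideal.quotientMap_mk, Ideal.quotientMap_mk, Ideal.quotientMap_mk, A.obj.res_comp]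
  iso {p q} h := isIso_of_bijective _ (by
    letI := (X.res h).toAlgebra
    let θ' := semiLift (S := X.ring q) (A.obj.res h) (A.obj.res_algebraMap h)
    have hθ : Function.Bijective θ' := bijective_of_isIso ((θ (X := X) h).app A)
    let mkp : A.obj.carrier p →ₐ[X.ring p] A.obj.carrier p ⧸ Ideal.span {t.e p} := Ideal.Quotient.mkₐ _ _
    let Φ : X.ring q ⊗[X.ring p] (A.obj.carrier p ⧸ Ideal.span {t.e p}) →ₐ[X.ring q]
        A.obj.carrier q ⧸ Ideal.span {t.e q} :=
      semiLift (Ideal.quotientMap (Ideal.span {t.e q}) (A.obj.res h) (quot_res_le t h)) (quot_semi t h)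
    let μ := Algebra.TensorProduct.map (AlgHom.id (X.ring q) (X.ring q)) mkp
    have hcomm : ∀ z, Φ (μ z) = Ideal.Quotient.mk _ (θ' z) := by
      intro z
      induction z using TensorProduct.induction_on with
      | zero => simp only [map_zero]
      | add x y hx hy => simp only [map_add, hx, hy]
      | tmul c a =>
        simp only [Φ, μ, θ', mkp, Algebra.TensorProduct.map_tmul, semiLift_tmul, Ideal.Quotient.mkₐ_eq_mk,
          Ideal.quotientMap_mk, map_mul, AlgHom.coe_id, id_eq]
        rfl
    have hμ : Function.Surjective μ := by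
      intro z
      induction z using TensorProduct.induction_on with
      | zero => exact ⟨0, map_zero _⟩
      | add x y hx hy =>
        obtain ⟨x, rfl⟩ := hx; obtain ⟨y, rfl⟩ := hy; exact ⟨x + y, map_add _ _ _⟩
      | tmul c a => obtain ⟨a, rfl⟩ := Ideal.Quotient.mk_surjective (I := Ideal.span {t.e p}) a; exact ⟨c ⊗ₜ a, rfl⟩
    show Function.Bijective Φ
    refine ⟨fun z z' hz => ?_, fun y => ?_⟩
    · obtain ⟨z, rfl⟩ := hμ z
      obtain ⟨z', rfl⟩ := hμ z'
      rw [hcomm, hcomm, Ideal.Quotient.eq, Ideal.mem_span_singleton] at hz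
      obtain ⟨c, hc⟩ := hz
      obtain ⟨c, rfl⟩ := hθ.2 c
      have he : θ' ((1 : X.ring q) ⊗ₜ t.e p) = t.e q := by
        simp only [θ', semiLift_tmul, map_one, one_mul, t.nat]
      have : z = z' + ((1 : X.ring q) ⊗ₜ t.e p) * c := hθ.1 (by
        rw [map_add, map_mul, he]; linear_combination hc)
      rw [this, map_add, map_mul]
      have h0 : μ ((1 : X.ring q) ⊗ₜ t.e p) = 0 := by
        simp only [μ, mkp, Algebra.TensorProduct.map_tmul, Ideal.Quotient.mkₐ_eq_mk, AlgHom.coe_id, id_eq,
          Ideal.Quotient.eq_zero_iff_mem.2 (Ideal.mem_span_singleton_self (t.e p)), TensorProduct.tmul_zero]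
      rw [h0, zero_mul, add_zero]
    · obtain ⟨y, rfl⟩ := Ideal.Quotient.mk_surjective (I := Ideal.span {t.e q}) y
      obtain ⟨z, rfl⟩ := hθ.2 y
      exact ⟨μ z, hcomm z⟩)

/-- the projection to the quotient -/
def cutπ {A : FEt X} (t : Idem A) : A ⟶ (cutData t).obj :=
  homOfApp (fun p => ObjectProperty.homMk (CommAlgCat.ofHom (Ideal.Quotient.mkₐ (X.ring p) (Ideal.span {t.e p}))))
    fun h a => Ideal.quotientMap_mk (H := quot_res_le t h)

theorem cutπ_apply {A : FEt X} (t : Idem A) (p : X.pt) (a : A.obj.carrier p) :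
    (cutπ t).hom.app p a = Ideal.Quotient.mk (Ideal.span {t.e p}) a := rfl

theorem cutπ_surjective {A : FEt X} (t : Idem A) (p : X.pt) : Function.Surjective ((cutπ t).hom.app p) :=
  fun y => Ideal.Quotient.mk_surjective (I := Ideal.span {t.e p}) y

theorem cutπ_eq_zero {A : FEt X} (t : Idem A) (p : X.pt) : (cutπ t).hom.app p (t.e p) = 0 :=
  (cutπ_apply t p _).trans (Ideal.Quotient.eq_zero_iff_mem.2 (Ideal.mem_span_singleton_self _))

/-- the kernel of a morphism, as a family of idempotents -/
theorem exists_ker (hX : X.IsSchematic) {A B : FEt X} (f : A ⟶ B) :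
    ∃ t : Idem A, ∀ p, RingHom.ker (f.hom.app p).toRingHom = Ideal.span {t.e p} := by
  haveI : ∀ p, Module.Finite (X.ring p) (A.obj.carrier p) := fun p => (A.property.2 p).1
  haveI : ∀ p, Algebra.Etale (X.ring p) (A.obj.carrier p) := fun p => (A.property.2 p).2
  haveI : ∀ p, Module.Finite (X.ring p) (B.obj.carrier p) := fun p => (B.property.2 p).1
  haveI : ∀ p, Algebra.Etale (X.ring p) (B.obj.carrier p) := fun p => (B.property.2 p).2
  choose e he hk using fun p => exists_ker_idem (f.hom.app p)
  refine ⟨⟨e, he, fun {p q} h => idem_unique ((he p).map _) (he q) ?_⟩, hk⟩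
  letI := (X.res h).toAlgebra
  haveI : Module.Flat (X.ring p) (X.ring q) := flat_res' hX h
  rw [← hk q]
  refine le_antisymm ((Ideal.span_singleton_le_iff_mem _).2 ?_) fun a ha => ?_
  · show f.hom.app q (A.obj.res h (e p)) = 0
    have h0 : f.hom.app p (e p) = 0 := apply_eq_zero_of_ker (hk p)
    rw [← f.hom.compat h, h0, map_zero]
  · obtain ⟨z, rfl⟩ := (bijective_of_isIso ((θ (X := X) h).app A)).2 a
    have hcomm : ∀ w, semiLift (S := X.ring q) (B.obj.res h) (B.obj.res_algebraMap h)
        (Algebra.TensorProduct.map (AlgHom.id (X.ring q) (X.ring q)) (f.hom.app p) w) =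
        f.hom.app q (semiLift (S := X.ring q) (A.obj.res h) (A.obj.res_algebraMap h) w) := by
      intro w
      induction w using TensorProduct.induction_on with
      | zero => simp only [map_zero]
      | add x y hx hy => simp only [map_add, hx, hy]
      | tmul c b =>
        simp only [Algebra.TensorProduct.map_tmul, semiLift_tmul, map_mul, AlgHom.commutes, AlgHom.coe_id, id_eq,
          f.hom.compat h]
    have hz : Algebra.TensorProduct.map (AlgHom.id (X.ring q) (X.ring q)) (f.hom.app p) z = 0 :=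
      (bijective_of_isIso ((θ (X := X) h).app B)).1 ((hcomm z).trans (ha.trans (map_zero _).symm))
    obtain ⟨c, hc⟩ := Ideal.mem_span_singleton.1 (ker_baseChange_le (f.hom.app p) (X.ring q) (hk p) hz)
    refine Ideal.mem_span_singleton.2 ⟨semiLift (S := X.ring q) (A.obj.res h) (A.obj.res_algebraMap h) c, ?_⟩
    rw [hc]
    show semiLift (S := X.ring q) (A.obj.res h) (A.obj.res_algebraMap h) _ = _
    rw [map_mul, semiLift_tmul, map_one, one_mul]

/-- image factorization -/
theorem exists_factor (hX : X.IsSchematic) {A B : FEt X} (f : A ⟶ B) :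
    ∃ (Q : FEt X) (g : A ⟶ Q) (h : Q ⟶ B), g ≫ h = f ∧ (∀ p : X.pt, Function.Surjective (g.hom.app p)) ∧
      ∀ p : X.pt, Function.Injective (h.hom.app p) := by
  obtain ⟨t, ht⟩ := exists_ker hX f
  have hle : ∀ p, ∀ a ∈ Ideal.span {t.e p}, f.hom.app p a = 0 := fun p a ha =>
    RingHom.mem_ker.1 (show a ∈ RingHom.ker (f.hom.app p).toRingHom by rw [ht p]; exact ha)
  let m : ∀ p, (evF X p).obj (cutData t).obj ⟶ (evF X p).obj B := fun p =>
    ObjectProperty.homMk (CommAlgCat.ofHom (Ideal.Quotient.liftₐ (Ideal.span {t.e p}) (f.hom.app p)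
      (hle p)))
  refine ⟨(cutData t).obj, cutπ t, homOfApp m fun {p q} h a => ?_,
    evF_ext fun p => ObjectProperty.hom_ext _ (CommAlgCat.hom_ext (AlgHom.ext fun (a : A.obj.carrier p) => Ideal.Quotient.lift_mk (Ideal.span {t.e p}) (f.hom.app p).toRingHom (hle p))), cutπ_surjective t,
    fun p => ?_⟩
  · obtain ⟨a, rfl⟩ := cutπ_surjective t p a
    exact f.hom.compat h a
  · intro a a' haa
    obtain ⟨a, rfl⟩ := cutπ_surjective t p a
    obtain ⟨a', rfl⟩ := cutπ_surjective t p a'
    refine Ideal.Quotient.eq.2 ?_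
    rw [← ht p, RingHom.mem_ker, map_sub, sub_eq_zero]
    exact haa

/-- a surjective morphism is a product projection -/
theorem exists_compl (hX : X.IsSchematic) {A B : FEt X} (f : A ⟶ B)
    (hf : ∀ p : X.pt, Function.Surjective (f.hom.app p)) :
    ∃ (D : FEt X) (π : A ⟶ D), Nonempty (IsLimit (BinaryFan.mk f π)) := by
  obtain ⟨t, ht⟩ := exists_ker hX f
  refine ⟨_, cutπ t.compl, ⟨?_⟩⟩
  have hbij : ∀ p, Function.Bijective fun a : A.obj.carrier p => (f.hom.app p a, (cutπ t.compl).hom.app p a) := by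
    intro p
    refine ⟨fun a a' h => ?_, fun ⟨b, d⟩ => ?_⟩
    · obtain ⟨h1, h2⟩ := Prod.ext_iff.1 h
      have m1 : a - a' ∈ Ideal.span {t.e p} := by rw [← ht p, RingHom.mem_ker, map_sub, sub_eq_zero]; exact h1
      simp only [cutπ_apply] at h2
      have m2 : a - a' ∈ Ideal.span {1 - t.e p} := Ideal.Quotient.eq.1 h2
      obtain ⟨c, hc⟩ := Ideal.mem_span_singleton.1 m1
      obtain ⟨c', hc'⟩ := Ideal.mem_span_singleton.1 m2
      have e1 : t.e p * (a - a') = a - a' := by rw [hc, ← mul_assoc, (t.idem p).eq]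
      have e2 : t.e p * (a - a') = 0 := by rw [hc', ← mul_assoc, mul_sub, mul_one, (t.idem p).eq, sub_self, zero_mul]
      exact sub_eq_zero.1 (e1.symm.trans e2)
    · obtain ⟨a, rfl⟩ := hf p b
      obtain ⟨a', rfl⟩ := cutπ_surjective t.compl p d
      have k1 : f.hom.app p (t.e p) = 0 := apply_eq_zero_of_ker (ht p)
      refine ⟨(1 - t.e p) * a + t.e p * a', Prod.ext ?_ ?_⟩
      · simp [k1]
      · have k2 := cutπ_eq_zero t.compl p
        change (cutπ t.compl).hom.app p (1 - t.e p) = 0 at k2
        have k3 : (cutπ t.compl).hom.app p (t.e p) = 1 := by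
          rw [map_sub, map_one, sub_eq_zero] at k2; exact k2.symm
        simp [k3]
  let E : ∀ p, A.obj.carrier p ≃ₐ[X.ring p] B.obj.carrier p × (cutData t.compl).obj.obj.carrier p := fun p =>
    AlgEquiv.ofBijective ((f.hom.app p).prod ((cutπ t.compl).hom.app p)) (hbij p)
  refine BinaryFan.IsLimit.mk _ (fun {T} g h => homOfApp
    (fun p => ObjectProperty.homMk (CommAlgCat.ofHom
      ((E p).symm.toAlgHom.comp ((g.hom.app p).prod (h.hom.app p))))) fun {p q} hpq a => ?_)
    (fun g h => evF_ext fun p => ObjectProperty.hom_ext _ (CommAlgCat.hom_ext (AlgHom.ext fun a =>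
      congrArg Prod.fst ((E p).apply_symm_apply _))))
    (fun g h => evF_ext fun p => ObjectProperty.hom_ext _ (CommAlgCat.hom_ext (AlgHom.ext fun a =>
      congrArg Prod.snd ((E p).apply_symm_apply _))))
    fun g h m h1 h2 => evF_ext fun p => ObjectProperty.hom_ext _ (CommAlgCat.hom_ext (AlgHom.ext fun a =>
      (E p).injective (Eq.trans ?_ ((E p).apply_symm_apply _).symm)))
  · apply (E q).injective
    refine Eq.trans ?_ ((E q).apply_symm_apply _).symm
    refine Prod.ext ?_ ?_
    · refine ((f.hom.compat hpq _).symm.trans ?_).trans (g.hom.compat hpq a)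
      exact congrArg (B.obj.res hpq) (congrArg Prod.fst ((E p).apply_symm_apply _))
    · refine (((cutπ t.compl).hom.compat hpq _).symm.trans ?_).trans (h.hom.compat hpq a)
      exact congrArg ((cutData t.compl).obj.obj.res hpq) (congrArg Prod.snd ((E p).apply_symm_apply _))
  · exact Prod.ext (congrArg (fun k => k.hom.app p a) h1) (congrArg (fun k => k.hom.app p a) h2)

end Groth.Agent.SF97
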