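import Groth.Agent.FEt83.Fiber
import Groth.Agent.FEt83.Equalizer
import Mathlib.RingTheory.RingHom.FaithfullyFlat
import Mathlib.RingTheory.Spectrum.Prime.FreeLocus

/-! Finite etale algebras over a ring: exactness of base change, kernels, ranks. -/

set_option autoImplicit false
universe u

noncomputable section

open TensorProduct CategoryTheory Limits Opposite AlgebraicGeometry CommAlgCat

namespace Groth.Agent.SF97

variable (R S : Type u) [CommRing R] [CommRing S] [Algebra R S]

set_option backward.isDefEq.respectTransparency.types false in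
def bcSpecIso :
    (FiniteEtale.baseChange.{u} R S).op ⋙ FEt83.specFunctor S ≅
      FEt83.specFunctor R ⋙ FEt.restrict (Spec.map (CommRingCat.ofHom (algebraMap R S))) :=
  NatIso.ofComponents
    (fun C => MorphismProperty.Over.isoMk ((pullbackSpecIso R S C.unop.obj).symm ≪≫ pullbackSymmetry _ _) (by
      show ((pullbackSpecIso R S C.unop.obj).inv ≫ (pullbackSymmetry _ _).hom) ≫ pullback.snd _ _ = _
      rw [Category.assoc, pullbackSymmetry_hom_comp_snd, pullbackSpecIso_inv_fst']
      rfl))
    (fun {C D} f => MorphismProperty.Over.Hom.ext (pullback.hom_ext (by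
      show (_ ≫ (pullbackSpecIso R S D.unop.obj).inv ≫ (pullbackSymmetry _ _).hom) ≫ pullback.fst _ _ =
        (((pullbackSpecIso R S C.unop.obj).inv ≫ (pullbackSymmetry _ _).hom) ≫
          pullback.lift (pullback.fst _ _ ≫ _) (pullback.snd _ _) _) ≫ pullback.fst _ _
      simp only [Category.assoc, pullback.lift_fst, pullbackSymmetry_hom_comp_fst,
        pullbackSymmetry_hom_comp_fst_assoc, pullbackSpecIso_inv_snd, pullbackSpecIso_inv_snd_assoc]
      refine (Spec.map_comp _ _).symm.trans (Eq.trans (congrArg Spec.map ?_) (Spec.map_comp _ _))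
      ext x
      rfl) (by
      show (_ ≫ (pullbackSpecIso R S D.unop.obj).inv ≫ (pullbackSymmetry _ _).hom) ≫ pullback.snd _ _ =
        (((pullbackSpecIso R S C.unop.obj).inv ≫ (pullbackSymmetry _ _).hom) ≫
          pullback.lift (pullback.fst _ _ ≫ _) (pullback.snd _ _) _) ≫ pullback.snd _ _
      simp only [Category.assoc, pullback.lift_snd, pullbackSymmetry_hom_comp_snd, pullbackSpecIso_inv_fst']
      refine (Spec.map_comp _ _).symm.trans (congrArg Spec.map ?_)
      ext x
      exact (Algebra.TensorProduct.map (AlgHom.id S S) f.unop.hom.hom).commutes x)))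

instance : HasFiniteLimits (FiniteEtale.{u} R)ᵒᵖ :=
  ⟨fun _ _ _ => Adjunction.hasLimitsOfShape_of_equivalence (FEt83.specFunctor R)⟩

instance : HasFiniteColimits (FiniteEtale.{u} R)ᵒᵖ :=
  ⟨fun _ _ _ => Adjunction.hasColimitsOfShape_of_equivalence (FEt83.specFunctor R)⟩

instance : HasFiniteLimits (FiniteEtale.{u} R) := hasFiniteColimits_opposite_iff.1 inferInstance

instance : HasFiniteColimits (FiniteEtale.{u} R) := hasFiniteLimits_opposite_iff.1 inferInstance

def bcOpIso : (FiniteEtale.baseChange.{u} R S).op ≅
    FEt83.specFunctor R ⋙ FEt.restrict (Spec.map (CommRingCat.ofHom (algebraMap R S))) ⋙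
      (FEt83.specFunctor S).asEquivalence.inverse :=
  (Functor.rightUnitor _).symm ≪≫
    Functor.isoWhiskerLeft _ (FEt83.specFunctor S).asEquivalence.unitIso ≪≫
    (Functor.associator _ _ _).symm ≪≫ Functor.isoWhiskerRight (bcSpecIso R S) _ ≪≫ Functor.associator _ _ _

instance : PreservesFiniteLimits (FiniteEtale.baseChange.{u} R S).op :=
  have : PreservesFiniteLimits (FEt.restrict (Spec.map (CommRingCat.ofHom (algebraMap R S)))) :=
    inferInstanceAs (PreservesFiniteLimits (MorphismProperty.Over.pullback FEt.prop ⊤ _))
  have := comp_preservesFiniteLimits (FEt.restrict (Spec.map (CommRingCat.ofHom (algebraMap R S))))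
    (FEt83.specFunctor S).asEquivalence.inverse
  have := comp_preservesFiniteLimits (FEt83.specFunctor R)
    (FEt.restrict (Spec.map (CommRingCat.ofHom (algebraMap R S))) ⋙ (FEt83.specFunctor S).asEquivalence.inverse)
  preservesFiniteLimits_of_natIso (bcOpIso R S).symm

instance : PreservesFiniteColimits (FiniteEtale.baseChange.{u} R S).op :=
  have := FEt83.preservesFiniteColimits_restrict (Spec.map (CommRingCat.ofHom (algebraMap R S)))
  have := comp_preservesFiniteColimits (FEt.restrict (Spec.map (CommRingCat.ofHom (algebraMap R S))))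
    (FEt83.specFunctor S).asEquivalence.inverse
  have := comp_preservesFiniteColimits (FEt83.specFunctor R)
    (FEt.restrict (Spec.map (CommRingCat.ofHom (algebraMap R S))) ⋙ (FEt83.specFunctor S).asEquivalence.inverse)
  preservesFiniteColimits_of_natIso (bcOpIso R S).symm

instance : PreservesFiniteLimits (FiniteEtale.baseChange.{u} R S) := preservesFiniteLimits_of_op _

instance : PreservesFiniteColimits (FiniteEtale.baseChange.{u} R S) := preservesFiniteColimits_of_op _

end Groth.Agent.SF97
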