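import Groth.Prelude.Def_SchFin
import Mathlib.RingTheory.IsTensorProduct
import Mathlib.Data.Fin.VecNotation
import Mathlib.Algebra.Algebra.Epi

/-! Degree zero cohomology on a finite ringed poset, degree zero of the schematic condition. -/

set_option autoImplicit false
universe u

noncomputable section

open TensorProduct SchFin

namespace Groth.Agent.SF97

section bc

variable {R S : Type u} [CommRing R] [CommRing S] (g : R →+* S)

theorem isBC_transport {M N P Q : Type u} [AddCommGroup M] [AddCommGroup N] [AddCommGroup P] [AddCommGroup Q]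
    [Module R M] [Module S N] [Module R P] [Module S Q] {f : M →ₛₗ[g] N} {f' : P →ₛₗ[g] Q}
    (eM : M ≃+ P) (hM : ∀ (a : R) m, eM (a • m) = a • eM m)
    (eN : N ≃+ Q) (hN : ∀ (s : S) n, eN (s • n) = s • eN n)
    (hf : ∀ m, f' (eM m) = eN (f m)) (h : IsBCAlong g f) : IsBCAlong g f' := by
  letI : Algebra R S := g.toAlgebra
  letI : Module R N := Module.compHom N g
  letI : Module R Q := Module.compHom Q g
  haveI : IsScalarTower R S N := IsScalarTower.of_algebraMap_smul fun _ _ => rfl
  haveI : IsScalarTower R S Q := IsScalarTower.of_algebraMap_smul fun _ _ => rfl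
  exact (IsBaseChange.iff_of_equiv_comm (S := S)
    (f := ({ toFun := f, map_add' := f.map_add, map_smul' := f.map_smulₛₗ } : M →ₗ[R] N))
    (f' := ({ toFun := f', map_add' := f'.map_add, map_smul' := f'.map_smulₛₗ } : P →ₗ[R] Q))
    { __ := eM, map_smul' := hM } { __ := eN, map_smul' := hN } (LinearMap.ext hf)).1 h

end bc

variable {X : RSpace.{u}} {U : Set X.pt} {R : Type u} [CommRing R] (φ : Coef X U R) (M : OMod X)

/-- the coefficient ring mapped into sections -/
def toSect : R →+* X.sectRing U where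
  toFun a := ⟨fun q => φ.map q a, fun q q' h => φ.compat q q' h a⟩
  map_one' := Subtype.ext (funext fun q => map_one (φ.map q))
  map_mul' a b := Subtype.ext (funext fun q => map_mul (φ.map q) a b)
  map_zero' := Subtype.ext (funext fun q => map_zero (φ.map q))
  map_add' a b := Subtype.ext (funext fun q => map_add (φ.map q) a b)

/-- the chain of one point -/
def ptChain (q : U) : Chain U 0 :=
  OrderEmbedding.ofStrictMono (fun _ => q) fun a b h => absurd h (by rw [Subsingleton.elim (α := Fin 1) a b]; exact lt_irrefl _)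

theorem eq_ptChain (σ : Chain U 0) : σ = ptChain (σ (Fin.last 0)) :=
  RelEmbedding.ext fun i => congrArg σ (Subsingleton.elim (α := Fin 1) i (Fin.last 0))

/-- the chain of two points -/
def edgeChain (q q' : U) (h : q < q') : Chain U 1 :=
  OrderEmbedding.ofStrictMono ![q, q'] (by
    rw [Fin.strictMono_iff_lt_succ]
    intro i
    fin_cases i
    exact h)

variable {φ} {M}

theorem res_cast (c : Cochain φ M 0) {σ σ' : Chain U 0} (e : σ = σ') {z : X.pt} (h : (σ (Fin.last 0)).1 ≤ z)
    (h' : (σ' (Fin.last 0)).1 ≤ z) : M.res h (c σ) = M.res h' (c σ') := by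
  subst e; rfl

theorem diff_apply (c : Cochain φ M 0) (σ : Chain U 1) :
    diff φ M 0 c σ = c.faceVal σ 0 - c.faceVal σ 1 := by
  show (∑ j : Fin 2, ((-1 : ℤ) ^ (j : ℕ)) • c.faceVal σ j) = _
  rw [Fin.sum_univ_two]
  simp [sub_eq_add_neg]

theorem mem_cocycles_iff (c : Cochain φ M 0) :
    c ∈ cocycles φ M 0 ↔ ∀ (q q' : U) (h : q.1 ≤ q'.1), M.res h (c (ptChain q)) = c (ptChain q') := by
  constructor
  · intro hc q q' h
    rcases eq_or_lt_of_le (show q ≤ q' from h) with rfl | hlt
    · exact M.res_self _ _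
    have h1 : diff φ M 0 c (edgeChain q q' hlt) = 0 := congrFun hc _
    rw [diff_apply, sub_eq_zero] at h1
    have e0 : Cochain.faceVal c (edgeChain q q' hlt) 0 = c (ptChain q') :=
      (res_cast c (σ' := ptChain q') (eq_ptChain _) _ (le_refl q'.1)).trans (M.res_self _ _)
    have e1 : Cochain.faceVal c (edgeChain q q' hlt) 1 = M.res h (c (ptChain q)) :=
      res_cast c (σ' := ptChain q) (eq_ptChain _) _ h
    rw [e0, e1] at h1
    exact h1.symm
  · intro hc
    refine funext fun σ => ?_
    rw [diff_apply]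
    have h : (σ 0).1 ≤ (σ 1).1 := σ.monotone (Fin.zero_le _)
    have e0 : Cochain.faceVal c σ 0 = c (ptChain (σ 1)) :=
      (res_cast c (σ' := ptChain (σ 1)) (eq_ptChain _) _ (le_refl (σ 1).1)).trans (M.res_self _ _)
    have e1 : Cochain.faceVal c σ 1 = M.res h (c (ptChain (σ 0))) :=
      res_cast c (σ' := ptChain (σ 0)) (eq_ptChain _) _ h
    rw [e0, e1, hc]
    exact sub_self _

theorem comap_cobdry_zero : (cobdry φ M 0).comap (cocycles φ M 0).subtype = ⊥ := by
  show (⊥ : Submodule R (Cochain φ M 0)).comap _ = ⊥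
  rw [Submodule.comap_bot, Submodule.ker_subtype]

variable (φ M)

/-- degree zero cohomology is sections -/
def h0 : H φ M 0 ≃+ M.sect U :=
  (Submodule.quotEquivOfEqBot _ comap_cobdry_zero).toAddEquiv.trans
    { toFun := fun c => ⟨fun q => c.1 (ptChain q), (mem_cocycles_iff c.1).1 c.2⟩
      invFun := fun s => ⟨fun σ => s.1 (σ (Fin.last 0)), (mem_cocycles_iff _).2 fun q q' h => s.2 q q' h⟩
      left_inv := fun c => Subtype.ext (funext fun σ =>
        ((M.res_self _ _).symm.trans ((res_cast c.1 (eq_ptChain σ).symm le_rfl le_rfl).trans (M.res_self _ _))))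
      right_inv := fun s => Subtype.ext (funext fun q => rfl)
      map_add' := fun _ _ => rfl }

theorem h0_smul (a : R) (z : H φ M 0) : h0 φ M (a • z) = toSect φ a • h0 φ M z := by
  obtain ⟨c, rfl⟩ := Submodule.Quotient.mk_surjective _ z
  exact Subtype.ext (funext fun q => rfl)

theorem h0_resH {U' : Set X.pt} {R' : Type u} [CommRing R'] {φ' : Coef X U' R'} (s : Coef.Sub φ φ')
    (z : H φ M 0) (q : U') : (h0 φ' M (resH M s 0 z)).1 q = (h0 φ M z).1 ⟨q.1, s.le q.2⟩ := by
  obtain ⟨c, rfl⟩ := Submodule.Quotient.mk_surjective _ z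
  show c.1 ((ptChain q).incl s.le) = c.1 (ptChain ⟨q.1, s.le q.2⟩)
  have e : (ptChain q).incl s.le = ptChain ⟨q.1, s.le q.2⟩ := eq_ptChain _
  exact (M.res_self _ _).symm.trans ((res_cast c.1 e le_rfl le_rfl).trans (M.res_self _ _))

variable {M}

/-- sections over a set with a least point are the module at that point -/
def sectLeast (z : U) (hz : ∀ q : U, z.1 ≤ q.1) : M.sect U ≃+ M.carrier z.1 where
  toFun s := s.1 z
  invFun m := ⟨fun q => M.res (hz q) m, fun _ _ _ => M.res_comp _ _ m⟩
  left_inv s := Subtype.ext (funext fun q => s.2 z q (hz q))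
  right_inv m := M.res_self _ m
  map_add' _ _ := rfl

/-- degree zero cohomology over a set with a least point -/
def h0Least (z : U) (hz : ∀ q : U, z.1 ≤ q.1) : H φ M 0 ≃+ M.carrier z.1 := (h0 φ M).trans (sectLeast z hz)

theorem h0Least_smul (z : U) (hz : ∀ q : U, z.1 ≤ q.1) (a : R) (c : H φ M 0) :
    h0Least φ z hz (a • c) = φ.map z a • h0Least φ z hz c := by
  show (h0 φ M (a • c)).1 z = _
  rw [h0_smul]
  rfl

end Groth.Agent.SF97
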