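import Groth.Agent.SF97.Basic

/-! Schematic points and geometric points of a schematic finite space. -/

set_option autoImplicit false
universe u

noncomputable section

open TensorProduct SchFin

namespace Groth.Agent.SF97

theorem exists_comap_eval {ι : Type*} [Fintype ι] [DecidableEq ι] {A : ι → Type*} [∀ i, CommRing (A i)]
    (r : PrimeSpectrum ((i : ι) → A i)) :
    ∃ (i : ι) (r' : PrimeSpectrum (A i)), PrimeSpectrum.comap (Pi.evalRingHom A i) r' = r := by
  obtain ⟨i, hi⟩ : ∃ i, Pi.single i (1 : A i) ∉ r.asIdeal := by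
    by_contra hcon
    push Not at hcon
    refine r.isPrime.ne_top ((Ideal.eq_top_iff_one _).2 ?_)
    rw [← Finset.univ_sum_single (1 : (i : ι) → A i)]
    exact Ideal.sum_mem _ fun i _ => hcon i
  have hker : RingHom.ker (Pi.evalRingHom A i) ≤ r.asIdeal := fun x hx => by
    refine (r.isPrime.mem_or_mem ?_).resolve_left hi
    convert r.asIdeal.zero_mem
    funext j
    by_cases hj : j = i
    · subst hj
      have hx' : x j = 0 := hx
      simp [hx']
    · simp [hj]
  have hs : Function.Surjective (Pi.evalRingHom A i) := fun a => ⟨Pi.single i a, by simp⟩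
  refine ⟨i, ⟨_, Ideal.map_isPrime_of_surjective hs hker⟩, PrimeSpectrum.ext ?_⟩
  show (Ideal.map _ r.asIdeal).comap _ = r.asIdeal
  rw [Ideal.comap_map_of_surjective _ hs]
  exact sup_eq_left.2 hker

/-- base change along the identity -/
theorem isBC_id {R M N : Type u} [CommRing R] [AddCommGroup M] [AddCommGroup N] [Module R M] [Module R N]
    {g : R →+* R} (hg : g = RingHom.id R) (f : M →ₛₗ[g] N) (hf : Function.Bijective f) : IsBCAlong g f := by
  subst hg
  exact IsBaseChange.ofEquiv (LinearEquiv.ofBijective f hf)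

/-- base change onto zero -/
theorem isBC_subsingleton {R S M N : Type u} [CommRing R] [CommRing S] [AddCommGroup M] [AddCommGroup N]
    [Module R M] [Module S N] (g : R →+* S) (f : M →ₛₗ[g] N) [Subsingleton N]
    (h : letI := g.toAlgebra; Subsingleton (S ⊗[R] M)) : IsBCAlong g f := by
  letI := g.toAlgebra
  letI : Module R N := Module.compHom N g
  haveI : IsScalarTower R S N := IsScalarTower.of_algebraMap_smul fun _ _ => rfl
  haveI := h
  exact IsBaseChange.of_equiv
    ({ toFun := fun _ => 0, invFun := fun _ => 0, left_inv := fun _ => Subsingleton.elim _ _,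
       right_inv := fun _ => Subsingleton.elim _ _, map_add' := fun _ _ => by simp,
       map_smul' := fun _ _ => by simp } : S ⊗[R] M ≃ₗ[S] N) fun _ => Subsingleton.elim _ _

theorem resH_self_bijective {X : RSpace.{u}} {U : Set X.pt} {R : Type u} [CommRing R] {φ φ' : Coef X U R}
    (M : OMod X) (s : Coef.Sub φ φ') (n : ℕ) (hφ : φ = φ') : Function.Bijective (resH M s n) := by
  subst hφ
  suffices ∀ z, resH M s n z = z by
    exact ⟨fun a b h => by rwa [this, this] at h, fun z => ⟨z, this z⟩⟩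
  intro z
  obtain ⟨c, rfl⟩ := Submodule.Quotient.mk_surjective _ z
  rfl

theorem subsingleton_H {X : RSpace.{u}} {U : Set X.pt} {R : Type u} [CommRing R] (φ : Coef X U R) (M : OMod X)
    (n : ℕ) [IsEmpty (Chain U n)] : Subsingleton (H φ M n) := by
  haveI : Subsingleton (Cochain φ M n) := inferInstanceAs (Subsingleton (∀ σ : Chain U n, M.carrier (σ (Fin.last n)).1))
  exact Function.Surjective.subsingleton (Submodule.Quotient.mk_surjective _)

variable (X : RSpace.{u}) (hX : X.IsSchematic)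

theorem comap_res_res {p q s : X.pt} (h : p ≤ q) (h' : q ≤ s) (r : PrimeSpectrum (X.ring s)) :
    PrimeSpectrum.comap (X.res h) (PrimeSpectrum.comap (X.res h') r) = PrimeSpectrum.comap (X.res (h.trans h')) r :=
  PrimeSpectrum.ext (Ideal.ext fun t => iff_of_eq (congrArg (· ∈ r.asIdeal) (X.res_comp h h' t)))

/-- the hypothesis on intersections of minimal open sets -/
def FFInter : Prop :=
  ∀ s a b : X.pt, s ≤ a → s ≤ b → (X.up a ∩ X.up b).Nonempty →
    Module.FaithfullyFlat (X.sectRing (X.up a ∩ X.up b)) ((q : ↥(X.up a ∩ X.up b)) → X.ring q.1)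

include hX

theorem pairRel_of_comap_eq (hff : FFInter X) {s x y : X.pt} (hx : s ≤ x) (hy : s ≤ y)
    (P : PrimeSpectrum (X.ring x)) (Q : PrimeSpectrum (X.ring y))
    (hPQ : PrimeSpectrum.comap (X.res hx) P = PrimeSpectrum.comap (X.res hy) Q) :
    X.PairRel ⟨x, P⟩ ⟨y, Q⟩ := by
  classical
  letI := (X.res hx).toAlgebra
  letI := (X.res hy).toAlgebra
  let c : X.Pair := ⟨s, PrimeSpectrum.comap (X.res hx) P⟩
  let eP := RingEquiv.ofBijective _ (κMap_bijective X hX c ⟨x, P⟩ hx rfl)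
  let eQ := RingEquiv.ofBijective _ (κMap_bijective X hX c ⟨y, Q⟩ hy hPQ.symm)
  let gx : X.ring x →+* c.κ := eP.symm.toRingHom.comp (algebraMap (X.ring x) P.asIdeal.ResidueField)
  let gy : X.ring y →+* c.κ := eQ.symm.toRingHom.comp (algebraMap (X.ring y) Q.asIdeal.ResidueField)
  have hcx : ∀ a, gx (X.res hx a) = algebraMap (X.ring s) c.κ a := fun a => by
    show eP.symm (algebraMap _ _ (X.res hx a)) = _
    rw [RingEquiv.symm_apply_eq]
    exact (Ideal.ResidueField.map_algebraMap _ _ _ _ a).symm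
  have hcy : ∀ a, gy (X.res hy a) = algebraMap (X.ring s) c.κ a := fun a => by
    show eQ.symm (algebraMap _ _ (X.res hy a)) = _
    rw [RingEquiv.symm_apply_eq]
    exact (Ideal.ResidueField.map_algebraMap _ _ _ _ a).symm
  letI : Algebra (X.ring s) c.κ := inferInstance
  let ψ : X.ring x ⊗[X.ring s] X.ring y →ₐ[X.ring s] c.κ := Algebra.TensorProduct.lift
    { toRingHom := gx, commutes' := hcx } { toRingHom := gy, commutes' := hcy } fun _ _ => Commute.all _ _
  let e := RingEquiv.ofBijective _ (pairMap_bijective X hX hx hy)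
  let ψ' : X.sectRing (X.up x ∩ X.up y) →+* c.κ := ψ.toRingHom.comp e.symm.toRingHom
  have hne : (X.up x ∩ X.up y).Nonempty := by
    by_contra hemp
    rw [Set.not_nonempty_iff_eq_empty] at hemp
    have h01 : (1 : X.sectRing (X.up x ∩ X.up y)) = 0 := Subtype.ext (funext fun q =>
      absurd q.2 (by simp [hemp]))
    exact one_ne_zero (α := c.κ) (by rw [← map_one ψ', h01, map_zero])
  haveI := hff s x y hx hy hne
  haveI : (RingHom.ker ψ').IsPrime := RingHom.ker_isPrime ψ'
  obtain ⟨r, hr⟩ := PrimeSpectrum.comap_surjective_of_faithfullyFlat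
    (A := X.sectRing (X.up x ∩ X.up y)) (B := (q : ↥(X.up x ∩ X.up y)) → X.ring q.1) ⟨RingHom.ker ψ', inferInstance⟩
  haveI := Fintype.ofFinite ↥(X.up x ∩ X.up y)
  obtain ⟨z, r', rfl⟩ := exists_comap_eval r
  have hr' : ∀ t, X.evalRing _ z t ∈ r'.asIdeal ↔ ψ' t = 0 := fun t =>
    (iff_of_eq (congrArg (t ∈ ·) (congrArg PrimeSpectrum.asIdeal hr))).trans RingHom.mem_ker
  refine ⟨z.1, z.2.1, z.2.2, r', PrimeSpectrum.ext (Ideal.ext fun a => ?_), PrimeSpectrum.ext (Ideal.ext fun a => ?_)⟩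
  · have he : e.symm (X.resSect x _ Set.inter_subset_left a) = a ⊗ₜ 1 := by
      rw [RingEquiv.symm_apply_eq]
      refine Subtype.ext (funext fun q => ?_)
      show _ = (pairMap X hx hy (a ⊗ₜ 1)).1 q
      rw [pairMap_tmul, map_one, mul_one]; rfl
    refine (hr' (X.resSect x _ Set.inter_subset_left a)).trans ?_
    show ψ (e.symm _) = 0 ↔ _
    rw [he, Algebra.TensorProduct.lift_tmul, map_one, mul_one]
    show gx a = 0 ↔ _
    simp only [gx, RingHom.comp_apply, RingEquiv.toRingHom_eq_coe, RingHom.coe_coe, EmbeddingLike.map_eq_zero_iff]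
    exact Ideal.algebraMap_residueField_eq_zero
  · have he : e.symm (X.resSect y _ Set.inter_subset_right a) = 1 ⊗ₜ a := by
      rw [RingEquiv.symm_apply_eq]
      refine Subtype.ext (funext fun q => ?_)
      show _ = (pairMap X hx hy (1 ⊗ₜ a)).1 q
      rw [pairMap_tmul, map_one, one_mul]; rfl
    refine (hr' (X.resSect y _ Set.inter_subset_right a)).trans ?_
    show ψ (e.symm _) = 0 ↔ _
    rw [he, Algebra.TensorProduct.lift_tmul, map_one, one_mul]
    show gy a = 0 ↔ _
    simp only [gy, RingHom.comp_apply, RingEquiv.toRingHom_eq_coe, RingHom.coe_coe, EmbeddingLike.map_eq_zero_iff]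
    exact Ideal.algebraMap_residueField_eq_zero

theorem equivalence_pairRel (hff : FFInter X) : Equivalence X.PairRel := by
  refine ⟨fun a => ⟨a.1, le_rfl, le_rfl, a.2, ?_, ?_⟩,
    fun {a b} ⟨z, h1, h2, r, e1, e2⟩ => ⟨z, h2, h1, r, e2, e1⟩, ?_⟩
  · exact PrimeSpectrum.ext (Ideal.ext fun t => iff_of_eq (congrArg (· ∈ a.2.asIdeal) (X.res_self _ t)))
  · exact PrimeSpectrum.ext (Ideal.ext fun t => iff_of_eq (congrArg (· ∈ a.2.asIdeal) (X.res_self _ t)))
  · rintro a b c ⟨z₁, h1, h2, r₁, e1, e2⟩ ⟨z₂, h3, h4, r₂, e3, e4⟩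
    obtain ⟨w, g1, g2, r, f1, f2⟩ := pairRel_of_comap_eq X hX hff h2 h3 r₁ r₂ (e2.trans e3.symm)
    refine ⟨w, h1.trans g1, h4.trans g2, r, ?_, ?_⟩
    · exact (comap_res_res X h1 g1 r).symm.trans ((congrArg (PrimeSpectrum.comap (X.res h1)) f1).trans e1)
    · exact (comap_res_res X h4 g2 r).symm.trans ((congrArg (PrimeSpectrum.comap (X.res h4)) f2).trans e4)

theorem existsUnique_maximal_pair (hff : FFInter X) (c : X.SchPt) :
    ∃! a : X.Pair, Quot.mk X.PairRel a = c ∧ ∀ b : X.Pair, Quot.mk X.PairRel b = c → b.1 ≤ a.1 := by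
  have heq := equivalence_pairRel X hX hff
  have hiff : ∀ a b, Quot.mk X.PairRel a = Quot.mk X.PairRel b ↔ X.PairRel a b := fun a b =>
    (Quot.eq (r := X.PairRel)).trans heq.eqvGen_iff
  obtain ⟨a₀, ha₀⟩ := Quot.exists_rep c
  have hs : {x : X.pt | ∃ P, Quot.mk X.PairRel (⟨x, P⟩ : X.Pair) = c}.Finite := Set.toFinite _
  obtain ⟨x, ⟨P, hP⟩, hmax⟩ := hs.exists_maximal ⟨a₀.1, a₀.2, ha₀⟩
  have key : ∀ b : X.Pair, Quot.mk X.PairRel b = c → b.1 ≤ x := by
    intro b hb
    obtain ⟨z, h1, h2, r, e1, e2⟩ := (hiff ⟨x, P⟩ b).1 (hP.trans hb.symm)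
    refine h2.trans (hmax ⟨r, ?_⟩ h1)
    exact ((hiff _ _).2 ⟨z, le_rfl, h1, r, PrimeSpectrum.ext (Ideal.ext fun t =>
      iff_of_eq (congrArg (· ∈ r.asIdeal) (X.res_self _ t))), e1⟩).trans hP
  refine ⟨⟨x, P⟩, ⟨hP, key⟩, ?_⟩
  rintro ⟨y, Q⟩ ⟨hQ, hQmax⟩
  obtain rfl : y = x := le_antisymm (key _ hQ) (hQmax _ hP)
  obtain ⟨z, h1, h2, r, e1, e2⟩ := (hiff ⟨y, Q⟩ ⟨y, P⟩).1 (hQ.trans hP.symm)
  have hz : z = y := le_antisymm (key ⟨z, r⟩ (((hiff _ _).2 ⟨z, le_rfl, h1, r, PrimeSpectrum.ext (Ideal.ext fun t =>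
      iff_of_eq (congrArg (· ∈ r.asIdeal) (X.res_self _ t))), e1⟩).trans hQ)) h1
  subst hz
  simp only at e1 e2
  rw [← e1, ← e2]

omit hX in
theorem subsingleton_H_empty {U : Set X.pt} (hU : U = ∅) {R : Type u} [CommRing R] (φ : Coef X U R) (n : ℕ) :
    Subsingleton (H φ X.str n) := by
  haveI : IsEmpty (Chain U n) := ⟨fun σ => by have := (σ 0).2; simp [hU] at this⟩
  exact subsingleton_H φ _ n

end Groth.Agent.SF97
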